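import Mathlib
import Groth.Prelude.Def_SGA4c
import Groth.Prelude.Def_ToposFin2
import Groth.Agent.Lib.CanonSheaf.Basic
import Groth.Agent.Lib.Giraud.SheafAxioms

set_option autoImplicit false
set_option linter.unusedVariables false
universe u

namespace Groth.TFin

open CategoryTheory CategoryTheory.Limits Opposite ToposFin

variable {C : Type u} [SmallCategory C] {J : GrothendieckTopology C}

/-- Jointly epimorphic family. -/
def EF {X : Sh J} {ι : Type u} {F : ι → Sh J} (g : ∀ i, F i ⟶ X) : Prop :=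
  ∀ (Z : Sh J) (a b : X ⟶ Z), (∀ i, g i ≫ a = g i ≫ b) → a = b

theorem ef_iff_epi {X : Sh J} {ι : Type u} {F : ι → Sh J} (g : ∀ i, F i ⟶ X) :
    EF g ↔ Epi (Sigma.desc g) := by
  constructor
  · intro h
    exact ⟨fun {Z} a b e => h Z a b fun i => by simpa using Sigma.ι F i ≫= e⟩
  · intro h Z a b e
    rw [← cancel_epi (Sigma.desc g)]
    exact Sigma.hom_ext _ _ fun i => by simpa using e i

theorem EF.mono {X : Sh J} {ι : Type u} {F : ι → Sh J} {g : ∀ i, F i ⟶ X} (hg : EF g) {κ : Type u}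
    {G : κ → Sh J} (h : ∀ k, G k ⟶ X) (hh : ∀ i, ∃ (k : κ) (a : F i ⟶ G k), a ≫ h k = g i) : EF h :=
  fun Z a b e => hg Z a b fun i => by
    obtain ⟨k, c, hc⟩ := hh i
    rw [← hc, Category.assoc, Category.assoc, e k]

theorem EF.comp {X : Sh J} {ι : Type u} {F : ι → Sh J} {g : ∀ i, F i ⟶ X} (hg : EF g) {κ : ι → Type u}
    {G : ∀ i, κ i → Sh J} {k : ∀ i (j : κ i), G i j ⟶ F i} (hk : ∀ i, EF (k i)) :
    EF fun p : Σ i, κ i => k p.1 p.2 ≫ g p.1 :=
  fun Z a b e => hg Z a b fun i => hk i Z _ _ fun j => by simpa using e ⟨i, j⟩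

theorem EF.of_isSplitEpi {X : Sh J} {ι : Type u} {F : ι → Sh J} {g : ∀ i, F i ⟶ X} (i : ι) [Epi (g i)] :
    EF g := fun Z a b e => (cancel_epi (g i)).1 (e i)

theorem EF.mem {X : Sh J} {ι : Type u} {F : ι → Sh J} {g : ∀ i, F i ⟶ X} (hg : EF g) :
    Sieve.ofArrows F g ∈ Sheaf.canonicalTopology (Sh J) X :=
  CanonSheaf.mem_of_LS (CanonSheaf.LS_of_epi _ fun Z a b e => hg Z a b fun i => e _ _ (Sieve.ofArrows_mk _ _ i))

theorem ef_of_mem {X : Sh J} {ι : Type u} {F : ι → Sh J} {g : ∀ i, F i ⟶ X}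
    (h : Sieve.ofArrows F g ∈ Sheaf.canonicalTopology (Sh J) X) : EF g :=
  fun Z a b e => CanonSheaf.epi_of_mem h Z a b fun Y f hf => by
    rw [Sieve.mem_ofArrows_iff] at hf
    obtain ⟨i, c, rfl⟩ := hf
    rw [Category.assoc, Category.assoc, e i]

/-- Pullback squares of a cover form a cover. -/
theorem EF.bc {X Y : Sh J} {ι : Type u} {F : ι → Sh J} {g : ∀ i, F i ⟶ X} (hg : EF g) (h : Y ⟶ X)
    {P : ι → Sh J} {p : ∀ i, P i ⟶ F i} {q : ∀ i, P i ⟶ Y} (H : ∀ i, IsPullback (p i) (q i) (g i) h) :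
    EF q := by
  refine ef_of_mem ((Sheaf.canonicalTopology (Sh J)).superset_covering ?_
    ((Sheaf.canonicalTopology (Sh J)).pullback_stable h hg.mem))
  intro V v hv
  rw [Sieve.pullback_apply, Sieve.mem_ofArrows_iff] at hv
  obtain ⟨i, a, ha⟩ := hv
  rw [Sieve.mem_ofArrows_iff]
  exact ⟨i, (H i).lift a v ha.symm, ((H i).lift_snd a v ha.symm).symm⟩

theorem EF.pullback_snd {X Y : Sh J} {ι : Type u} {F : ι → Sh J} {g : ∀ i, F i ⟶ X} (hg : EF g) (h : Y ⟶ X) :
    EF fun i => pullback.snd (g i) h :=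
  hg.bc h fun i => IsPullback.of_hasPullback (g i) h

theorem EF.pullback_fst {X Y : Sh J} {ι : Type u} {F : ι → Sh J} {g : ∀ i, F i ⟶ X} (hg : EF g) (h : Y ⟶ X) :
    EF fun i => pullback.fst h (g i) :=
  hg.bc h fun i => (IsPullback.of_hasPullback h (g i)).flip

/-- Maps out of a covered object are compatible families. -/
theorem EF.exists_desc {X W : Sh J} {ι : Type u} {F : ι → Sh J} {g : ∀ i, F i ⟶ X} (hg : EF g)
    (t : ∀ i, F i ⟶ W) (ht : ∀ i j, pullback.fst (g i) (g j) ≫ t i = pullback.snd (g i) (g j) ≫ t j) :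
    ∃ T : X ⟶ W, ∀ i, g i ≫ T = t i := by
  obtain ⟨T, hT, -⟩ := (Presieve.isSheafFor_arrows_iff_pullbacks _ _).1
    ((Presieve.isSheafFor_iff_generate _).2 (Sheaf.isSheaf_yoneda_obj W _ hg.mem)) t ht
  exact ⟨T, hT⟩

/-- An object covered by nothing is initial. -/
theorem isInitial_of_ef {X : Sh J} {ι : Type u} [IsEmpty ι] {F : ι → Sh J} {g : ∀ i, F i ⟶ X} (hg : EF g) :
    Nonempty (IsInitial X) := by
  have : ∀ W, ∃! f : X ⟶ W, True := fun W => by
    obtain ⟨T, -⟩ := hg.exists_desc (W := W) (fun i => isEmptyElim i) fun i => isEmptyElim i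
    exact ⟨T, trivial, fun y _ => hg W y T fun i => isEmptyElim i⟩
  exact ⟨IsInitial.ofUniqueHom (fun W => (this W).choose) fun W m => (this W).unique trivial (this W).choose_spec.1⟩

theorem ef_empty {X : Sh J} (hX : IsInitial X) : EF (X := X) (fun i : PEmpty.{u + 1} => (i.elim : X ⟶ X)) :=
  fun Z a b _ => hX.hom_ext a b

/-- A map to an initial object has initial source. -/
theorem isInitial_of_hom {X Y : Sh J} (hY : IsInitial Y) (a : X ⟶ Y) : Nonempty (IsInitial X) :=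
  isInitial_of_ef ((ef_empty hY).pullback_fst a)

theorem ef_of_isInitial {X : Sh J} (hX : IsInitial X) {ι : Type u} {F : ι → Sh J} (g : ∀ i, F i ⟶ X) : EF g :=
  fun Z a b _ => hX.hom_ext a b

theorem coproductDisjoint {κ : Type u} (G : κ → Sh J) : CoproductDisjoint G := by
  obtain ⟨c, hc, hd, -⟩ := Groth.Agent.Lib.Giraud.sheaf_hasDisjointUniversalCoproducts (J := J) κ G
  exact hd

theorem ef_inj {κ : Type u} {G : κ → Sh J} {c : Cofan G} (hc : IsColimit c) : EF fun k => c.inj k :=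
  fun Z a b e => Cofan.IsColimit.hom_ext hc a b e

theorem inj_mono {κ : Type u} {G : κ → Sh J} {c : Cofan G} (hc : IsColimit c) (k : κ) : Mono (c.inj k) :=
  have := coproductDisjoint G
  CoproductDisjoint.mono_inj hc k

theorem isInitial_inter {κ : Type u} {G : κ → Sh J} {c : Cofan G} (hc : IsColimit c) {k l : κ} (h : k ≠ l)
    {Z : Sh J} (a : Z ⟶ G k) (b : Z ⟶ G l) (e : a ≫ c.inj k = b ≫ c.inj l) : Nonempty (IsInitial Z) := by
  have := coproductDisjoint G
  exact isInitial_of_hom (IsInitial.ofCoproductDisjointOfIsColimitOfIsLimit h hc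
    (pullbackIsPullback (c.inj k) (c.inj l))) (pullback.lift a b e)

/-! ### Quasi-compactness -/

theorem qc_iff (X : Sh J) : IsQC X ↔ ∀ (ι : Type u) (F : ι → Sh J) (π : ∀ i, F i ⟶ X), EF π →
    ∃ s : Finset ι, EF fun i : s => π i := by
  simp only [IsQC, ← ef_iff_epi]

theorem qc_of_finite_cover {X : Sh J} {ι : Type u} [Finite ι] {F : ι → Sh J} {g : ∀ i, F i ⟶ X} (hg : EF g)
    (hF : ∀ i, IsQC (F i)) : IsQC X := by
  rw [qc_iff]
  intro κ G π hπ
  classical
  have := Fintype.ofFinite ι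
  choose s hs using fun i => (qc_iff _).1 (hF i) κ _ _ (hπ.pullback_snd (g i))
  refine ⟨Finset.univ.biUnion s, (hg.comp hs).mono _ ?_⟩
  rintro ⟨i, k, hk⟩
  exact ⟨⟨k, Finset.mem_biUnion.2 ⟨i, Finset.mem_univ _, hk⟩⟩, pullback.fst (π k) (g i), pullback.condition⟩

theorem qc_of_epi {X X' : Sh J} (f : X ⟶ X') [Epi f] (h : IsQC X) : IsQC X' :=
  qc_of_finite_cover (g := fun _ : PUnit.{u + 1} => f) (fun Z a b e => (cancel_epi f).1 (e ⟨⟩)) fun _ => h

theorem qc_of_iso {X X' : Sh J} (e : X ≅ X') (h : IsQC X) : IsQC X' := qc_of_epi e.hom h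

theorem qc_of_isInitial {X : Sh J} (hX : IsInitial X) : IsQC X :=
  qc_of_finite_cover (g := fun i : PEmpty.{u + 1} => (i.elim : X ⟶ X)) (ef_empty hX) fun i => i.elim

theorem IsQC.exists_finite {X : Sh J} (h : IsQC X) {ι : Type u} {F : ι → Sh J} {π : ∀ i, F i ⟶ X}
    (hπ : EF π) : ∃ (κ : Type u) (_ : Finite κ) (e : κ → ι), EF fun k => π (e k) := by
  obtain ⟨s, hs⟩ := (qc_iff X).1 h ι F π hπ
  exact ⟨_, inferInstance, fun i : s => (i : ι), hs⟩

/-- The pullback of quasi-compact covers. -/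
theorem qc_pullback_of_covers {K L X : Sh J} (a : K ⟶ X) (b : L ⟶ X) {ι κ : Type u} [Finite ι] [Finite κ]
    {F : ι → Sh J} {g : ∀ i, F i ⟶ K} (hg : EF g) {G : κ → Sh J} {h : ∀ k, G k ⟶ L} (hh : EF h)
    (H : ∀ i k, IsQC (pullback (g i ≫ a) (h k ≫ b))) : IsQC (pullback a b) := by
  refine qc_of_finite_cover
    (g := fun p : ι × κ => pullback.map (g p.1 ≫ a) (h p.2 ≫ b) a b (g p.1) (h p.2) (𝟙 X) (by simp) (by simp))
    ?_ fun p => H p.1 p.2
  intro Z x y e
  refine (hg.pullback_fst (pullback.fst a b)) Z x y fun i => ?_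
  refine (hh.pullback_fst (pullback.fst (pullback.fst a b) (g i) ≫ pullback.snd a b)) Z _ _ fun k => ?_
  let r : pullback (pullback.fst (pullback.fst a b) (g i) ≫ pullback.snd a b) (h k) ⟶
      pullback (g i ≫ a) (h k ≫ b) :=
    pullback.lift (pullback.fst _ _ ≫ pullback.snd (pullback.fst a b) (g i)) (pullback.snd _ _) (by
      rw [Category.assoc, ← pullback.condition_assoc, ← reassoc_of% pullback.condition (f := pullback.fst (pullback.fst a b) (g i) ≫ pullback.snd a b) (g := h k)]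
      simp [pullback.condition])
  have hr : r ≫ pullback.map (g i ≫ a) (h k ≫ b) a b (g i) (h k) (𝟙 X) (by simp) (by simp) =
      pullback.fst _ (h k) ≫ pullback.fst (pullback.fst a b) (g i) := by
    apply pullback.hom_ext
    · simp only [r, Category.assoc, limit.lift_π, PullbackCone.mk_π_app, pullback.lift_fst, pullback.lift_fst_assoc]
      exact congrArg (pullback.fst _ (h k) ≫ ·) pullback.condition.symm
    · simp only [r, Category.assoc, limit.lift_π, PullbackCone.mk_π_app, pullback.lift_snd, pullback.lift_snd_assoc]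
      rw [← pullback.condition]
  have := r ≫= e (i, k)
  simpa only [← Category.assoc, hr] using this

end Groth.TFin
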