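import Mathlib
import Groth.Agent.Lib.ToposFin.Cover

set_option autoImplicit false
set_option linter.unusedVariables false
universe u

namespace Groth.TFin

open CategoryTheory CategoryTheory.Limits Opposite ToposFin

variable {C : Type u} [SmallCategory C] {J : GrothendieckTopology C}

variable (J) in
/-- Quasi-compact morphisms, in terms of squares. -/
def QCP : MorphismProperty (Sh J) := fun X Y f =>
  ∀ ⦃Y' P : Sh J⦄ (g : Y' ⟶ Y) (p : P ⟶ X) (q : P ⟶ Y'), IsPullback p q f g → IsQC Y' → IsQC P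

theorem qcp_iff {X Y : Sh J} (f : X ⟶ Y) : IsQCHom f ↔ QCP J f :=
  ⟨fun h Y' P g p q H hY => qc_of_iso H.isoPullback.symm (h Y' g hY),
   fun h Y' g hY => h g _ _ (IsPullback.of_hasPullback f g) hY⟩

variable (J) in
/-- Quasi-separated morphisms. -/
abbrev QSP : MorphismProperty (Sh J) := (QCP J).diagonal

theorem qsp_iff {X Y : Sh J} (f : X ⟶ Y) : IsQSHom f ↔ QSP J f := qcp_iff _

instance : (QCP J).IsStableUnderBaseChange :=
  ⟨fun {S T S' T' f g f' g'} H hg Y' P k p q H' hY => hg (k ≫ f) (p ≫ f') q (H'.paste_horiz H) hY⟩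

instance : (QCP J).IsStableUnderComposition where
  comp_mem {X Y Z} f g hf hg := by
    intro W P k p q H hW
    let H₁ := IsPullback.of_hasPullback g k
    have hQ := hg k _ _ H₁ hW
    let l : P ⟶ pullback g k := pullback.lift (p ≫ f) q (by rw [Category.assoc, H.w])
    refine hf (pullback.fst g k) p l (IsPullback.of_bot ?_ (pullback.lift_fst _ _ _).symm H₁) hQ
    rwa [pullback.lift_snd]

instance : (QCP J).ContainsIdentities where
  id_mem X Y' P g p q H hY := by
    have : IsIso q := H.isIso_snd_of_isIso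
    exact qc_of_iso (asIso q).symm hY

instance : (QCP J).IsMultiplicative where

theorem qcp_of_isIso {X Y : Sh J} (f : X ⟶ Y) [IsIso f] : QCP J f := (QCP J).of_isIso f

theorem qsp_of_mono {X Y : Sh J} (f : X ⟶ Y) [Mono f] : QSP J f := qcp_of_isIso (pullback.diagonal f)

theorem qcp_cancel {X Y Z : Sh J} (f : X ⟶ Y) (g : Y ⟶ Z) (hg : QSP J g) (h : QCP J (f ≫ g)) : QCP J f :=
  have : (QCP J).HasOfPostcompProperty (QSP J) :=
    (QCP J).hasOfPostcompProperty_iff_le_diagonal.2 le_rfl
  (QCP J).of_postcomp f g hg h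

theorem qsp_of_comp {X Y Z : Sh J} (f : X ⟶ Y) (g : Y ⟶ Z) (h : QSP J (f ≫ g)) : QSP J f := by
  let m : pullback f f ⟶ pullback (f ≫ g) (f ≫ g) :=
    pullback.map f f (f ≫ g) (f ≫ g) (𝟙 _) (𝟙 _) g (by simp) (by simp)
  have : Mono m := ⟨fun a b e => by
    apply pullback.hom_ext
    · have := congrArg (· ≫ pullback.fst _ _) e
      simpa only [m, pullback.map, Category.assoc, pullback.lift_fst, Category.comp_id] using this
    · have := congrArg (· ≫ pullback.snd _ _) e
      simpa only [m, pullback.map, Category.assoc, pullback.lift_snd, Category.comp_id] using this⟩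
  refine qcp_cancel _ m (qsp_of_mono m) ?_
  have e : pullback.diagonal f ≫ m = pullback.diagonal (f ≫ g) := by
    apply pullback.hom_ext <;> simp [m, pullback.map, pullback.lift_fst, pullback.lift_snd, pullback.lift_fst_assoc, pullback.lift_snd_assoc, pullback.diagonal_fst, pullback.diagonal_snd, pullback.diagonal_fst_assoc, pullback.diagonal_snd_assoc]
  rw [e]
  exact h

/-! ### Objects -/

theorem qs_iff (X : Sh J) : IsQS X ↔ ∀ ⦃K : Sh J⦄ (a : K ⟶ X), IsQC K → QCP J a :=
  ⟨fun h K a hK Y' P g p q H hY => qc_of_iso H.isoPullback.symm (h K Y' a g hK hY),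
   fun h Y Z a b hY hZ => h a hY b _ _ (IsPullback.of_hasPullback a b) hZ⟩

theorem qs_of_qsp {X Y : Sh J} (f : X ⟶ Y) (hf : QSP J f) (hY : IsQS Y) : IsQS X :=
  fun K L a b hK hL => hf _ _ _ (pullback_map_diagonal_isPullback a b f) (hY K L _ _ hK hL)

theorem qs_of_mono {X Y : Sh J} (i : X ⟶ Y) [Mono i] (hY : IsQS Y) : IsQS X :=
  qs_of_qsp i (qsp_of_mono i) hY

theorem qs_of_iso {X Y : Sh J} (e : X ≅ Y) (h : IsQS X) : IsQS Y := qs_of_mono e.inv h

theorem coherent_of_iso {X Y : Sh J} (e : X ≅ Y) (h : IsCoherent X) : IsCoherent Y :=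
  ⟨qc_of_iso e h.1, qs_of_iso e h.2⟩

theorem coherent_of_retract {X Y : Sh J} (i : X ⟶ Y) (p : Y ⟶ X) (h : i ≫ p = 𝟙 X) (hY : IsCoherent Y) :
    IsCoherent X := by
  have : Epi p := (SplitEpi.mk i h).epi
  have : Mono i := (SplitMono.mk p h).mono
  exact ⟨qc_of_epi p hY.1, qs_of_mono i hY.2⟩

/-- A cover by quasi-separated objects with quasi-compact maps. -/
theorem qs_of_qcp_cover {Y : Sh J} {ι : Type u} {Yi : ι → Sh J} (g : ∀ i, Yi i ⟶ Y) (hg : EF g)
    (hqs : ∀ i, IsQS (Yi i)) (hqc : ∀ i, QCP J (g i)) : IsQS Y := by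
  intro K L a b hK hL
  obtain ⟨κ, hfin, e, he⟩ := IsQC.exists_finite hK (hg.pullback_snd a)
  refine qc_pullback_of_covers a b he (h := fun _ : PUnit.{u + 1} => 𝟙 L)
    (EF.of_isSplitEpi PUnit.unit) fun k _ => ?_
  let i := e k
  have hKi : IsQC (pullback (g i) a) := hqc i a _ _ (IsPullback.of_hasPullback (g i) a) hK
  have hLi : IsQC (pullback (g i) b) := hqc i b _ _ (IsPullback.of_hasPullback (g i) b) hL
  have hP := hqs i _ _ (pullback.fst (g i) a) (pullback.fst (g i) b) hKi hLi
  have HP : IsPullback (pullback.fst (pullback.fst (g i) a) (pullback.fst (g i) b))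
      (pullback.snd (pullback.fst (g i) a) (pullback.fst (g i) b) ≫ pullback.snd (g i) b)
      (pullback.snd (g i) a ≫ a) (𝟙 L ≫ b) := by
    have := ((IsPullback.of_hasPullback (pullback.fst (g i) a) (pullback.fst (g i) b)).flip.paste_horiz
      (IsPullback.of_hasPullback (g i) b).flip).flip
    rwa [pullback.condition (f := g i) (g := a), ← Category.id_comp b] at this
  exact qc_of_iso HP.isoPullback hP

/-! ### Coproducts -/

theorem qcp_inj {κ : Type u} {G : κ → Sh J} {c : Cofan G} (hc : IsColimit c) (k : κ) : QCP J (c.inj k) := by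
  classical
  intro K P g p q H hK
  rw [qc_iff]
  intro ι F π hπ
  let Fam : ι ⊕ {l : κ // l ≠ k} → Sh J := Sum.elim F fun l => pullback (c.inj l.1) g
  let fam : ∀ s, Fam s ⟶ K := fun s => match s with
    | .inl i => π i ≫ q
    | .inr l => pullback.snd (c.inj l.1) g
  have hfam : EF fam := fun Z a b e => (ef_inj hc).pullback_snd g Z a b fun l => by
    by_cases hl : l = k
    · subst hl
      let r := H.lift (pullback.fst (c.inj l) g) (pullback.snd (c.inj l) g) pullback.condition
      have hr : r ≫ q = pullback.snd (c.inj l) g := H.lift_snd _ _ _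
      have h1 : q ≫ a = q ≫ b := hπ Z _ _ fun i =>
        (Category.assoc _ _ _).symm.trans ((e (Sum.inl i)).trans (Category.assoc _ _ _))
      change pullback.snd (c.inj l) g ≫ a = pullback.snd (c.inj l) g ≫ b
      rw [← hr, Category.assoc, Category.assoc, h1]
    · exact e (Sum.inr ⟨l, hl⟩)
  obtain ⟨s, hs⟩ := (qc_iff K).1 hK _ _ _ hfam
  refine ⟨s.preimage Sum.inl (Set.injOn_of_injective Sum.inl_injective), fun Z a b e => ?_⟩
  refine (hs.bc q (fun j => (IsPullback.of_hasPullback (fam j) q))) Z a b fun j => ?_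
  obtain ⟨i | l, hj⟩ := j
  · have : Mono q := by
      have := inj_mono hc k
      exact H.mono_snd_of_mono
    have h1 : pullback.snd (π i ≫ q) q = pullback.fst (π i ≫ q) q ≫ π i := by
      rw [← cancel_mono q, Category.assoc, pullback.condition]
    have h2 := e ⟨i, Finset.mem_preimage.2 hj⟩
    change pullback.snd (π i ≫ q) q ≫ a = pullback.snd (π i ≫ q) q ≫ b
    rw [h1, Category.assoc, Category.assoc]
    exact congrArg (pullback.fst (π i ≫ q) q ≫ ·) h2
  · obtain ⟨hI⟩ := isInitial_inter hc l.2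
      (pullback.fst (pullback.snd (c.inj l.1) g) q ≫ pullback.fst (c.inj l.1) g)
      (pullback.snd (pullback.snd (c.inj l.1) g) q ≫ p)
      (by rw [Category.assoc, pullback.condition, Category.assoc, H.w, pullback.condition_assoc])
    exact hI.hom_ext _ _

theorem qs_cofan {κ : Type u} {G : κ → Sh J} {c : Cofan G} (hc : IsColimit c) :
    IsQS c.pt ↔ ∀ k, IsQS (G k) :=
  ⟨fun h k => have := inj_mono hc k; qs_of_mono (c.inj k) h,
   fun h => qs_of_qcp_cover _ (ef_inj hc) h (qcp_inj hc)⟩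

theorem qc_summand {κ : Type u} {G : κ → Sh J} {c : Cofan G} (hc : IsColimit c) (h : IsQC c.pt) (k : κ) :
    IsQC (G k) :=
  qcp_inj hc k (𝟙 _) (𝟙 _) (c.inj k) (IsPullback.of_horiz_isIso ⟨by simp⟩) h

theorem coherent_cofan {κ : Type u} [Finite κ] {G : κ → Sh J} {c : Cofan G} (hc : IsColimit c)
    (h : ∀ k, IsCoherent (G k)) : IsCoherent c.pt :=
  ⟨qc_of_finite_cover (ef_inj hc) fun k => (h k).1, (qs_cofan hc).2 fun k => (h k).2⟩

/-! ### Locality -/

variable (J) in
/-- Covers by quasi-compact objects exist. -/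
abbrev Gen : Prop := ∀ X : Sh J, ∃ (ι : Type u) (F : ι → Sh J) (π : ∀ i, F i ⟶ X), (∀ i, IsQC (F i)) ∧ EF π

theorem gen_of_hasQC (h : HasQCGenerators J) : Gen J := fun X => by
  obtain ⟨ι, F, π, hF, hπ⟩ := h X
  exact ⟨ι, F, π, hF, (ef_iff_epi π).2 hπ⟩

theorem gen_of_generating {S : Set (Sh J)} (hS : IsGenerating S) (hqc : ∀ K ∈ S, IsQC K) : Gen J := fun X => by
  obtain ⟨ι, F, π, hF, hπ⟩ := hS X
  exact ⟨ι, F, π, fun i => hqc _ (hF i), hπ⟩

theorem hasQC_of_gen (h : Gen J) : HasQCGenerators J := fun X => by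
  obtain ⟨ι, F, π, hF, hπ⟩ := h X
  exact ⟨ι, F, π, hF, (ef_iff_epi π).1 hπ⟩

/-- Local on the target. -/
theorem qcp_local (hgen : Gen J) {X Y : Sh J} (f : X ⟶ Y) {ι : Type u} {Yi : ι → Sh J}
    (g : ∀ i, Yi i ⟶ Y) (hg : EF g) (h : ∀ i, QCP J (pullback.snd f (g i))) : QCP J f := by
  intro Y' P k p q H hY'
  choose α W w hW hw using fun i => hgen (pullback (g i) k)
  have hcov : EF fun j : Σ i, α i => w j.1 j.2 ≫ pullback.snd (g j.1) k := (hg.pullback_snd k).comp hw
  obtain ⟨κ, hfin, e, he⟩ := IsQC.exists_finite hY' hcov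
  refine qc_of_finite_cover (he.bc q fun m =>
    (IsPullback.of_hasPullback (w (e m).1 (e m).2 ≫ pullback.snd (g (e m).1) k) q)) fun m => ?_
  let w' := w (e m).1 (e m).2
  have hbig : IsPullback (pullback.snd (w' ≫ pullback.snd (g (e m).1) k) q ≫ p)
      (pullback.fst (w' ≫ pullback.snd (g (e m).1) k) q) f ((w' ≫ pullback.fst (g (e m).1) k) ≫ g (e m).1) := by
    have := (IsPullback.of_hasPullback (w' ≫ pullback.snd (g (e m).1) k) q).flip.paste_horiz H
    rwa [Category.assoc, ← pullback.condition, ← Category.assoc] at this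
  let H₁ := IsPullback.of_hasPullback f (g (e m).1)
  let l := H₁.lift (pullback.snd (w' ≫ pullback.snd (g (e m).1) k) q ≫ p)
    (pullback.fst (w' ≫ pullback.snd (g (e m).1) k) q ≫ w' ≫ pullback.fst (g (e m).1) k)
    (by rw [hbig.w]; simp only [Category.assoc])
  refine h (e m).1 (w' ≫ pullback.fst (g (e m).1) k) l _ (IsPullback.of_right ?_ (H₁.lift_snd _ _ _) H₁) (hW _ _)
  simpa [l] using hbig

/-- Local on the target, for a cover by quasi-compact morphisms. -/
theorem qcp_local' {X Y : Sh J} (f : X ⟶ Y) {ι : Type u} {Yi : ι → Sh J}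
    (g : ∀ i, Yi i ⟶ Y) (hg : EF g) (hgq : ∀ i, QCP J (g i)) (h : ∀ i, QCP J (pullback.snd f (g i))) :
    QCP J f := by
  intro Y' P k p q H hY'
  obtain ⟨κ, hfin, e, he⟩ := IsQC.exists_finite hY' (hg.pullback_snd k)
  refine qc_of_finite_cover (he.bc q fun m =>
    (IsPullback.of_hasPullback (pullback.snd (g (e m)) k) q)) fun m => ?_
  have hW : IsQC (pullback (g (e m)) k) := hgq (e m) k _ _ (IsPullback.of_hasPullback (g (e m)) k) hY'
  have hbig : IsPullback (pullback.snd (pullback.snd (g (e m)) k) q ≫ p)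
      (pullback.fst (pullback.snd (g (e m)) k) q) f (pullback.fst (g (e m)) k ≫ g (e m)) := by
    have := (IsPullback.of_hasPullback (pullback.snd (g (e m)) k) q).flip.paste_horiz H
    rwa [← pullback.condition] at this
  let H₁ := IsPullback.of_hasPullback f (g (e m))
  let l := H₁.lift (pullback.snd (pullback.snd (g (e m)) k) q ≫ p)
    (pullback.fst (pullback.snd (g (e m)) k) q ≫ pullback.fst (g (e m)) k)
    (by rw [hbig.w, Category.assoc])
  refine h (e m) (pullback.fst (g (e m)) k) l _ (IsPullback.of_right ?_ (H₁.lift_snd _ _ _) H₁) hW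
  simpa [l] using hbig

theorem ef_diagonalCover {X Y : Sh J} (f : X ⟶ Y) {ι : Type u} {Yi : ι → Sh J} {g : ∀ i, Yi i ⟶ Y}
    (hg : EF g) :
    EF fun i => pullback.map (pullback.snd f (g i)) (pullback.snd f (g i)) f f
      (pullback.fst f (g i)) (pullback.fst f (g i)) (g i) pullback.condition.symm pullback.condition.symm := by
  refine (hg.pullback_snd (pullback.fst f f ≫ f)).mono _ fun i => ⟨i, ?_⟩
  let u := pullback.fst (g i) (pullback.fst f f ≫ f)
  let v := pullback.snd (g i) (pullback.fst f f ≫ f)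
  have e : u ≫ g i = v ≫ pullback.fst f f ≫ f := pullback.condition
  refine ⟨pullback.lift (pullback.lift (v ≫ pullback.fst f f) u (by rw [Category.assoc, e]))
    (pullback.lift (v ≫ pullback.snd f f) u (by rw [Category.assoc, ← pullback.condition, e]))
    (by rw [pullback.lift_snd, pullback.lift_snd]), ?_⟩
  apply pullback.hom_ext <;> simp [v, pullback.map, pullback.lift_fst, pullback.lift_snd, pullback.lift_fst_assoc, pullback.lift_snd_assoc, pullback.diagonal_fst, pullback.diagonal_snd, pullback.diagonal_fst_assoc, pullback.diagonal_snd_assoc]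

/-- Quasi-separatedness is local on the target. -/
theorem qsp_local (hgen : Gen J) {X Y : Sh J} (f : X ⟶ Y) {ι : Type u} {Yi : ι → Sh J}
    (g : ∀ i, Yi i ⟶ Y) (hg : EF g) (h : ∀ i, QSP J (pullback.snd f (g i))) : QSP J f := by
  refine qcp_local hgen _ _ (ef_diagonalCover f hg) fun i => ?_
  set q := pullback.map (pullback.snd f (g i)) (pullback.snd f (g i)) f f (pullback.fst f (g i))
    (pullback.fst f (g i)) (g i) pullback.condition.symm pullback.condition.symm
  have H : IsPullback (pullback.fst f (g i)) (pullback.diagonal (pullback.snd f (g i))) (pullback.diagonal f) q := by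
    refine ⟨⟨by apply pullback.hom_ext <;> simp [q, pullback.map, pullback.lift_fst, pullback.lift_snd, pullback.lift_fst_assoc, pullback.lift_snd_assoc, pullback.diagonal_fst, pullback.diagonal_snd, pullback.diagonal_fst_assoc, pullback.diagonal_snd_assoc]⟩, ⟨PullbackCone.IsLimit.mk _
      (fun s => s.snd ≫ pullback.fst _ _) (fun s => ?_) (fun s => ?_) (fun s m h1 h2 => ?_)⟩⟩
    · have := congrArg (· ≫ pullback.fst _ _) s.condition
      simpa [q, pullback.map, pullback.lift_fst, pullback.lift_snd, pullback.lift_fst_assoc, pullback.lift_snd_assoc, pullback.diagonal_fst, pullback.diagonal_snd, pullback.diagonal_fst_assoc, pullback.diagonal_snd_assoc] using this.symm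
    · have h1 := congrArg (· ≫ pullback.fst _ _) s.condition
      have h2 := congrArg (· ≫ pullback.snd _ _) s.condition
      simp [q, pullback.map, pullback.lift_fst, pullback.lift_snd, pullback.lift_fst_assoc, pullback.lift_snd_assoc, pullback.diagonal_fst, pullback.diagonal_snd, pullback.diagonal_fst_assoc, pullback.diagonal_snd_assoc] at h1 h2
      apply pullback.hom_ext
      · simp
      · apply pullback.hom_ext
        · simp [← h2, ← h1]
        · simp [pullback.condition]
    · simpa using congrArg (· ≫ pullback.fst _ _) h2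
  have := (QCP J).arrow_mk_iso_iff (Arrow.isoMk H.isoPullback (Iso.refl _) (H.isoPullback_hom_snd.trans (Category.comp_id _).symm) :
    Arrow.mk (pullback.diagonal (pullback.snd f (g i))) ≅ Arrow.mk (pullback.snd (pullback.diagonal f) q))
  exact this.1 (h i)

/-- Local on the source, finitely. -/
theorem qcp_of_finite_cover {X Y : Sh J} (f : X ⟶ Y) {ι : Type u} [Finite ι] {Xi : ι → Sh J}
    (g : ∀ i, Xi i ⟶ X) (hg : EF g) (h : ∀ i, QCP J (g i ≫ f)) : QCP J f := by
  intro Y' P k p q H hY'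
  exact qc_of_finite_cover (hg.pullback_snd p) fun i =>
    h i k (pullback.fst (g i) p) (pullback.snd (g i) p ≫ q)
      ((IsPullback.of_hasPullback (g i) p).paste_vert H) hY'

theorem ef_pairs {X Y : Sh J} (f : X ⟶ Y) {ι : Type u} {Xi : ι → Sh J} {g : ∀ i, Xi i ⟶ X} (hg : EF g) :
    EF fun p : ι × ι => pullback.map (g p.1 ≫ f) (g p.2 ≫ f) f f (g p.1) (g p.2) (𝟙 Y) (by simp) (by simp) := by
  refine ((hg.pullback_fst (pullback.fst f f)).comp fun i =>
    hg.pullback_fst (pullback.fst (pullback.fst f f) (g i) ≫ pullback.snd f f)).mono _ fun p => ?_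
  obtain ⟨i, j⟩ := p
  refine ⟨(i, j), pullback.lift (pullback.fst _ _ ≫ pullback.snd (pullback.fst f f) (g i)) (pullback.snd _ _) ?_, ?_⟩
  · rw [Category.assoc, ← pullback.condition_assoc, ← reassoc_of% pullback.condition
      (f := pullback.fst (pullback.fst f f) (g i) ≫ pullback.snd f f) (g := g j)]
    simp [pullback.condition]
  · apply pullback.hom_ext
    · simp only [pullback.map, Category.assoc, pullback.lift_fst, pullback.lift_fst_assoc]
      exact congrArg (pullback.fst _ _ ≫ ·) pullback.condition.symm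
    · simp only [pullback.map, Category.assoc, pullback.lift_snd, pullback.lift_snd_assoc]
      rw [← pullback.condition]

/-- Quasi-separatedness, local on the source. -/
theorem qsp_of_source_cover {X Y : Sh J} (f : X ⟶ Y) {ι : Type u} {Xi : ι → Sh J}
    (g : ∀ i, Xi i ⟶ X) (hg : EF g) (hgq : ∀ i, QCP J (g i)) (h : ∀ i, QSP J (g i ≫ f)) : QSP J f := by
  refine qcp_local' _ _ (ef_pairs f hg) (fun p => (QCP J).pullbackMap (hgq p.1) (hgq p.2) rfl rfl) fun p => ?_
  set q := pullback.map (g p.1 ≫ f) (g p.2 ≫ f) f f (g p.1) (g p.2) (𝟙 Y) (by simp) (by simp)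
  have H := pullback_map_diagonal_isPullback (g p.1) (g p.2) f
  refine (((QCP J).arrow_mk_iso_iff (Arrow.isoMk H.isoPullback (Iso.refl _) (H.isoPullback_hom_snd.trans (Category.comp_id _).symm) :
    Arrow.mk (pullback.map (g p.1) (g p.2) (g p.1 ≫ f) (g p.2 ≫ f) _ _ f (Category.id_comp _).symm
      (Category.id_comp _).symm) ≅ Arrow.mk (pullback.snd (pullback.diagonal f) q)))).1 ?_
  refine qcp_cancel _ (pullback.fst (g p.1 ≫ f) (g p.2 ≫ f)) ((QSP J).pullback_fst _ _ (h p.2)) ?_
  simpa [pullback.map, pullback.lift_fst] using (QCP J).pullback_fst (g p.1) (g p.2) (hgq p.2)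

/-- A test for quasi-separated objects. -/
theorem qs_of_pairwise (hgen : Gen J) {Y : Sh J} {ι : Type u} {Yi : ι → Sh J} (g : ∀ i, Yi i ⟶ Y)
    (hg : EF g) (hqs : ∀ i, IsQS (Yi i)) (h : ∀ i j, IsQC (pullback (g i) (g j))) : IsQS Y :=
  qs_of_qcp_cover g hg hqs fun i =>
    qcp_local hgen _ g hg fun j => (qs_iff _).1 (hqs j) _ (h i j)

/-- Test against generators. -/
theorem qcp_of_gens (hgen : Gen J) {X Y : Sh J} (f : X ⟶ Y) {S : Set (Sh J)} (hS : IsGenerating S)
    (h : ∀ K ∈ S, ∀ s : K ⟶ Y, IsQS K ∧ IsQC (pullback f s)) : QCP J f := by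
  obtain ⟨ι, F, π, hF, hπ⟩ := hS Y
  exact qcp_local hgen f π hπ fun i => (qs_iff _).1 (h _ (hF i) (π i)).1 _ (h _ (hF i) (π i)).2

/-- Quasi-separated morphisms from quasi-separated sources. -/
theorem qsp_of_cover (hgen : Gen J) {X Y : Sh J} (f : X ⟶ Y) {ι : Type u} {Xi : ι → Sh J}
    (g : ∀ i, Xi i ⟶ X) (hg : EF g) (hqc : ∀ i, IsQC (Xi i))
    (hqs : ∀ i j, IsQS (pullback (g i ≫ f) (g j ≫ f))) (hX : IsQS X) : QSP J f := by
  refine qcp_local hgen _ _ (ef_pairs f hg) fun p => ?_
  exact (qs_iff _).1 (hqs p.1 p.2) _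
    (qc_of_iso (pullback_map_diagonal_isPullback (g p.1) (g p.2) f).isoPullback
      (hX _ _ _ _ (hqc p.1) (hqc p.2)))

end Groth.TFin
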