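import Mathlib
import Groth.Agent.Lib.ToposFin.Hom

set_option autoImplicit false
set_option linter.unusedVariables false
universe u

namespace Groth.TFin

open CategoryTheory CategoryTheory.Limits Opposite ToposFin

variable {C D : Type u} [SmallCategory C] [SmallCategory D] {J : GrothendieckTopology C}
  {K : GrothendieckTopology D}

theorem qs_of_closed {S : Set (Sh J)} (hgen : IsGenerating S) (hqc : ∀ K ∈ S, IsQC K)
    (hpb : ClosedUnderPullbacks S) : ∀ X ∈ S, IsQS X := by
  intro X hX A B a b hA hB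
  obtain ⟨ι, F, π, hF, hπ⟩ := hgen A
  obtain ⟨κ, G, ρ, hG, hρ⟩ := hgen B
  obtain ⟨ι', hfin, e, he⟩ := IsQC.exists_finite hA hπ
  obtain ⟨κ', hfin', e', he'⟩ := IsQC.exists_finite hB hρ
  refine qc_pullback_of_covers a b he he' fun i k => ?_
  obtain ⟨P, p, q, hP, hPb⟩ := hpb (π (e i) ≫ a) (ρ (e' k) ≫ b) (hF _) (hG _) hX
  exact qc_of_iso hPb.isoPullback (hqc _ hP)

/-- In an algebraic topos every morphism with quasi-separated source is quasi-separated. -/
theorem alg_qsp (hE : IsAlgebraic J) {X Y : Sh J} (hX : IsQS X) (f : X ⟶ Y) : QSP J f := by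
  obtain ⟨S, hqc, hgen, hpb, heq⟩ := hE
  have hG := gen_of_generating hgen hqc
  have hcoh := qs_of_closed hgen hqc hpb
  have hterm : ∀ L ∈ S, QSP J (terminal.from L) := by
    intro L hL
    obtain ⟨ι, F, π, hF, hπ⟩ := hgen (pullback (terminal.from L) (terminal.from L))
    refine qcp_local hG _ π hπ fun i => (qs_iff _).1 (hcoh _ (hF i)) _ ?_
    let s := π i ≫ pullback.fst _ _
    let t := π i ≫ pullback.snd _ _
    obtain ⟨P, e, w, hP, ⟨hlim⟩⟩ := heq s t (hF i) hL
    have H : IsPullback (e ≫ s) e (pullback.diagonal (terminal.from L)) (π i) := by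
      refine ⟨⟨?_⟩, ⟨PullbackCone.IsLimit.mk _ (fun c => (Fork.IsLimit.lift' hlim c.snd ?_).1)
        (fun c => ?_) (fun c => (Fork.IsLimit.lift' hlim c.snd _).2) (fun c m h1 h2 => ?_)⟩⟩
      · apply pullback.hom_ext
        · simp [s]
        · simpa [t] using w
      · have h1 := congrArg (· ≫ pullback.fst _ _) c.condition
        have h2 := congrArg (· ≫ pullback.snd _ _) c.condition
        simp only [Category.assoc, pullback.diagonal_fst, pullback.diagonal_snd, Category.comp_id] at h1 h2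
        exact h1.symm.trans h2
      · refine ((Category.assoc _ _ _).symm.trans (congrArg (· ≫ s) (Fork.IsLimit.lift' hlim c.snd _).2)).trans ?_
        have h1 := congrArg (· ≫ pullback.fst _ _) c.condition
        simp only [Category.assoc, pullback.diagonal_fst, Category.comp_id] at h1
        exact h1.symm
      · exact Fork.IsLimit.hom_ext hlim (h2.trans (Fork.IsLimit.lift' hlim c.snd _).2.symm)
    exact qc_of_iso H.isoPullback (hqc _ hP)
  suffices hXt : QSP J (terminal.from X) by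
    refine qsp_of_comp f (terminal.from Y) ?_
    rwa [Subsingleton.elim (f ≫ terminal.from Y) (terminal.from X)]
  obtain ⟨ι, F, π, hF, hπ⟩ := hgen X
  refine qsp_of_cover hG _ π hπ (fun i => hqc _ (hF i)) (fun i j => ?_) hX
  have : QSP J (π j ≫ terminal.from X) := by
    rw [Subsingleton.elim (π j ≫ terminal.from X) (terminal.from (F j))]
    exact hterm _ (hF j)
  exact qs_of_qsp _ ((QSP J).pullback_fst _ _ this) (hcoh _ (hF i))

theorem ef_map {F : Sh K ⥤ Sh J} {R : Sh J ⥤ Sh K} (adj : F ⊣ R) {X : Sh K} {ι : Type u} {G : ι → Sh K}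
    {g : ∀ i, G i ⟶ X} (hg : EF g) : EF fun i => F.map (g i) := fun Z a b e => by
  apply (adj.homEquiv X Z).injective
  refine hg _ _ _ fun i => ?_
  rw [← Adjunction.homEquiv_naturality_left, ← Adjunction.homEquiv_naturality_left, e i]

theorem coherent_pullback (F : Sh K ⥤ Sh J) {R : Sh J ⥤ Sh K} (adj : F ⊣ R) [PreservesFiniteLimits F]
    (hE' : HasQCGenerators J) (S : Set (Sh K)) (hS : ∀ X ∈ S, IsCoherent X) (hgen : IsGenerating S)
    (h : ∀ X ∈ S, IsCoherent (F.obj X)) :
    (∀ X : Sh K, IsQC X → IsQC (F.obj X)) ∧ (∀ X : Sh K, IsQS X → IsQS (F.obj X)) := by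
  have hqc : ∀ X : Sh K, IsQC X → IsQC (F.obj X) := fun X hX => by
    obtain ⟨ι, G, π, hG, hπ⟩ := hgen X
    obtain ⟨κ, hfin, e, he⟩ := IsQC.exists_finite hX hπ
    exact qc_of_finite_cover (ef_map adj he) fun k => (h _ (hG _)).1
  refine ⟨hqc, fun X hX => ?_⟩
  obtain ⟨ι, G, π, hG, hπ⟩ := hgen X
  refine qs_of_pairwise (gen_of_hasQC hE') _ (ef_map adj hπ) (fun i => (h _ (hG i)).2) fun i j => ?_
  exact qc_of_iso ((IsPullback.of_hasPullback (π i) (π j)).map F).isoPullback
    (hqc _ (hX _ _ _ _ (hS _ (hG i)).1 (hS _ (hG j)).1))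

end Groth.TFin
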