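import Mathlib
import Groth.Agent.Lib.ToposFin.Alg
import Groth.Agent.Lib.CofanSheaf.Basic

set_option autoImplicit false
set_option linter.unusedVariables false
universe u

namespace Groth.TFin

open CategoryTheory CategoryTheory.Limits Opposite ToposFin
open Groth.CanonSheaf (pt hat pt_comp pt_map pt_hat hat_pt hat_comp map_hat sheaf_ext)

variable {C : Type u} [SmallCategory C] {J : GrothendieckTopology C}

local notation "εJ" => CanonSheaf.ε J

theorem ef_eps {X : C} {ι : Type u} {V : ι → C} (g : ∀ i, V i ⟶ X) :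
    EF (X := eps J X) (F := fun i => eps J (V i)) (fun i => (εJ).map (g i)) ↔ Sieve.ofArrows V g ∈ J X := by
  constructor
  · intro h
    let a := presheafToSheaf J (Type u)
    have hepi : Epi (a.map (CofanSheaf.desc g)) := ⟨fun {Z} x y e => h Z x y fun i => by
      have hi : yoneda.map (g i) = CofanSheaf.inj V i ≫ CofanSheaf.desc g := by
        ext W w; rfl
      change a.map (yoneda.map (g i)) ≫ x = a.map (yoneda.map (g i)) ≫ y
      rw [hi, Functor.map_comp, Category.assoc, Category.assoc, e]⟩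
    rw [← CofanSheaf.surj_iff]
    exact (Presheaf.isLocallySurjective_presheafToSheaf_map_iff _ _).1
      ((Sheaf.isLocallySurjective_iff_epi _).2 hepi)
  · intro hS Z a b e
    refine (pt X Z).injective (sheaf_ext Z hS fun W w hw => ?_)
    rw [Sieve.mem_ofArrows_iff] at hw
    obtain ⟨i, c, rfl⟩ := hw
    rw [← pt_map, ← pt_map, Functor.map_comp, Category.assoc, Category.assoc]
    exact congrArg (fun z => pt W Z ((εJ).map c ≫ z)) (e i)

theorem ef_hats (A : Sh J) :
    EF (X := A) (F := fun p : Σ U : C, A.obj.obj (op U) => eps J p.1) (fun p => hat A p.2) := fun Z a b e => by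
  refine Sheaf.hom_ext (NatTrans.ext (funext fun U => ?_))
  ext x
  obtain ⟨U⟩ := U
  have := congrArg (pt U Z) (e ⟨U, x⟩)
  simp only [pt_comp, pt_hat] at this
  exact this

variable (J) in
/-- The representable sheaves. -/
def epsSet : Set (Sh J) := Set.range (eps J)

theorem generating_eps : IsGenerating (epsSet J) := fun A =>
  ⟨_, _, fun p : Σ U : C, A.obj.obj (op U) => hat A p.2, fun p => ⟨p.1, rfl⟩, ef_hats A⟩

/-- Every map to a representable sheaf comes locally from the site. -/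
theorem lift_locally {A : Sh J} {X : C} (a : A ⟶ eps J X) :
    ∃ (ι : Type u) (V : ι → C) (k : ∀ i, eps J (V i) ⟶ A) (w : ∀ i, V i ⟶ X),
      EF k ∧ ∀ i, k i ≫ a = (εJ).map (w i) := by
  let η := toSheafify J (yoneda.obj X)
  let I := Σ' (U : C) (x : A.obj.obj (op U)) (V : C) (v : V ⟶ U) (w : V ⟶ X),
    η.app (op V) w = (eps J X).obj.map v.op (a.hom.app (op U) x)
  have hid : ∀ (V : C) (w : V ⟶ X), pt V (eps J X) ((εJ).map w) = η.app (op V) w := fun V w => by
    have h0 : pt X (eps J X) (𝟙 _) = η.app (op X) (𝟙 X) := by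
      simp [pt, Adjunction.homEquiv_unit, yonedaEquiv_apply, η]
      rfl
    have h1 := pt_map w (eps J X) (𝟙 ((εJ).obj X))
    rw [Category.comp_id, h0] at h1
    refine h1.trans ?_
    rw [← NatTrans.naturality_apply]
    exact congrArg _ (Category.comp_id w)
  refine ⟨I, fun i => i.2.2.1, fun i => hat A (A.obj.map i.2.2.2.1.op i.2.1), fun i => i.2.2.2.2.1, ?_, fun i => ?_⟩
  · intro Z p q e
    refine Sheaf.hom_ext (NatTrans.ext (funext fun U => ?_))
    ext x
    obtain ⟨U⟩ := U
    refine sheaf_ext Z (Presheaf.imageSieve_mem J η (a.hom.app (op U) x)) fun V v ⟨w, hw⟩ => ?_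
    have := congrArg (pt V Z) (e ⟨U, x, V, v, w, hw⟩)
    simp only [pt_comp, pt_hat, NatTrans.naturality_apply] at this
    exact this
  · obtain ⟨U, x, V, v, w, hw⟩ := i
    apply (pt V (eps J X)).injective
    rw [hid, pt_comp, pt_hat]
    refine Eq.trans ?_ hw.symm
    have h3 := NatTrans.naturality_apply a.hom v.op x
    exact h3

theorem qcSite_iff (X : C) : IsQCSite J X ↔ IsQC (eps J X) := by
  constructor
  · intro h
    rw [qc_iff]
    intro ι F π hπ
    choose κ V k w hk hw using fun i => lift_locally (π i)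
    have hT : Sieve.ofArrows (fun p : Σ i, κ i => V p.1 p.2) (fun p => w p.1 p.2) ∈ J X := by
      rw [← ef_eps]
      exact (hπ.comp hk).mono _ fun p => ⟨p, 𝟙 _, by rw [Category.id_comp]; exact (hw _ _).symm⟩
    obtain ⟨n, W, g, hg, hgJ⟩ := h _ hT
    have hg' : ∀ m, ∃ (p : Σ i, κ i) (c : W m ⟶ V p.1 p.2), g m = c ≫ w p.1 p.2 := fun m =>
      (Sieve.mem_ofArrows_iff _ _ _).1 (hg m)
    choose p c hc using hg'
    classical
    refine ⟨Finset.univ.image fun m => (p m).1, ?_⟩
    have hcov : EF (X := eps J X) (F := fun m : ULift.{u} (Fin n) => eps J (W m.down)) (fun m => (εJ).map (g m.down)) := by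
      rw [ef_eps]
      convert hgJ using 1
      ext V' v
      simp only [Sieve.mem_ofArrows_iff]
      exact ⟨fun ⟨m, a, ha⟩ => ⟨m.down, a, ha⟩, fun ⟨m, a, ha⟩ => ⟨⟨m⟩, a, ha⟩⟩
    refine hcov.mono _ fun m => ⟨⟨(p m.down).1, Finset.mem_image_of_mem _ (Finset.mem_univ _)⟩,
      (εJ).map (c m.down) ≫ k _ (p m.down).2, ?_⟩
    rw [Category.assoc, hw, ← Functor.map_comp, ← hc]
  · intro h S hS
    obtain ⟨κ, hfin, e, he⟩ := IsQC.exists_finite h ((ef_eps (J := J) (fun i : Σ V : C, {v : V ⟶ X // S v} => i.2.1)).2 (by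
      convert hS using 1
      ext V v
      rw [Sieve.mem_ofArrows_iff]
      exact ⟨fun ⟨i, a, ha⟩ => ha ▸ S.downward_closed i.2.2 a, fun hv => ⟨⟨V, v, hv⟩, 𝟙 V, (Category.id_comp v).symm⟩⟩))
    obtain ⟨n, ⟨f⟩⟩ := Finite.exists_equiv_fin κ
    refine ⟨n, fun m => (e (f.symm m)).1, fun m => (e (f.symm m)).2.1, fun m => (e (f.symm m)).2.2, ?_⟩
    have := (ef_eps (J := J) (fun k => (e k).2.1)).1 he
    convert this using 1
    ext V v
    simp only [Sieve.mem_ofArrows_iff]
    exact ⟨fun ⟨m, a, ha⟩ => ⟨f.symm m, a, ha⟩,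
      fun ⟨k, a, ha⟩ => by
        obtain ⟨m, rfl⟩ := f.symm.surjective k
        exact ⟨m, a, ha⟩⟩

variable [HasPullbacks C]

/-- The comparison for fibre products of representables. -/
noncomputable def epsPullback {X Y Z : C} (a : X ⟶ Z) (b : Y ⟶ Z) :
    eps J (pullback a b) ≅ pullback ((εJ).map a) ((εJ).map b) :=
  ((IsPullback.of_hasPullback a b).map (εJ)).isoPullback

variable (hC : ∀ X : C, IsQCSite J X)

include hC in
omit [HasPullbacks C] in
theorem gen_eps : Gen J := gen_of_generating generating_eps (by rintro _ ⟨X, rfl⟩; exact (qcSite_iff X).1 (hC X))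

include hC in
theorem coherent_eps (X : C) : IsCoherent (eps J X) := by
  refine ⟨(qcSite_iff X).1 (hC X), fun A B a b hA hB => ?_⟩
  obtain ⟨ι, V, k, w, hk, hw⟩ := lift_locally a
  obtain ⟨κ, W, l, z, hl, hz⟩ := lift_locally b
  obtain ⟨ι', hf, e, he⟩ := IsQC.exists_finite hA hk
  obtain ⟨κ', hf', e', he'⟩ := IsQC.exists_finite hB hl
  refine qc_pullback_of_covers a b he he' fun i j => ?_
  exact qc_of_iso (epsPullback (w (e i)) (z (e' j)) ≪≫ (pullback.congrHom (hw (e i)) (hz (e' j))).symm)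
    ((qcSite_iff _).1 (hC _))

include hC in
theorem qsp_to_eps {X : C} {G : Sh J} (g : G ⟶ eps J X) (hG : IsQS G) : QSP J g := by
  obtain ⟨ι, V, k, w, hk, hw⟩ := lift_locally g
  refine qsp_of_cover (gen_eps hC) g k hk (fun i => (qcSite_iff _).1 (hC _)) (fun i j => ?_) hG
  exact qs_of_iso (epsPullback (w i) (w j) ≪≫ (pullback.congrHom (hw i) (hw j)).symm) (coherent_eps hC _).2

include hC in
theorem qs_pullback_eps {X : C} {G H : Sh J} (g : G ⟶ eps J X) (h : H ⟶ eps J X) (hG : IsQS G) (hH : IsQS H) :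
    IsQS (pullback g h) :=
  qs_of_qsp (pullback.fst g h ≫ g) ((QSP J).comp_mem _ _ ((QSP J).pullback_fst g h (qsp_to_eps hC h hH))
    (qsp_to_eps hC g hG)) (coherent_eps hC X).2

end Groth.TFin
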