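import Groth.Agent.Lib.ToposFin.Cohom
import Mathlib.CategoryTheory.Sites.SheafCohomology.Basic
import Mathlib.CategoryTheory.Sites.ConstantSheaf

/-!
# The free abelian sheaf on the final object, and free sheaves on opens
-/

set_option autoImplicit false
set_option linter.style.haveILetI false

universe u

open CategoryTheory CategoryTheory.Limits Opposite CategoryTheory.Abelian
open Groth.Agent.Lib.SiteCoh.FreeSheaf

namespace Groth.Agent.Lib.ToposFin.CohomTop

variable {C : Type u} [SmallCategory C] (J : GrothendieckTopology C)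

/-- The terminal sheaf has singleton sections. -/
@[implicit_reducible]
noncomputable def topUnique (V : Cᵒᵖ) : Unique ((⊤_ (ToposFin.Sh J)).obj.obj V) :=
  Types.isTerminalEquivUnique _ (terminalIsTerminal.isTerminalObj
    (sheafToPresheaf J (Type u) ⋙ (evaluation Cᵒᵖ (Type u)).obj V) _)

/-- `Z[e]` is the constant sheaf `Z`. -/
noncomputable def freeTopIso : (freeSh J).obj (⊤_ (ToposFin.Sh J)) ≅
    (constantSheaf J AddCommGrpCat.{u}).obj (AddCommGrpCat.of (ULift.{u} ℤ)) :=
  (presheafToSheaf J AddCommGrpCat.{u}).mapIso <| NatIso.ofComponents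
    (fun V => AddEquiv.toAddCommGrpIso
      ((@FreeAbelianGroup.uniqueEquiv _ (topUnique J V)).trans AddEquiv.ulift.symm))
    (fun {V W} g => by
      refine AddCommGrpCat.hom_ext (FreeAbelianGroup.lift_ext _ _ fun x => ULift.ext _ _ ?_)
      exact (FreeAbelianGroup.lift_apply_of (fun _ => (1 : ℤ))
          ((⊤_ (ToposFin.Sh J)).obj.map g x)).trans
        (FreeAbelianGroup.lift_apply_of (fun _ => (1 : ℤ)) x).symm)

/-- The free abelian group functor preserves injections. -/
lemma map_injective {α β : Type u} (f : α → β) (hf : Function.Injective f) :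
    Function.Injective (FreeAbelianGroup.map f) := by
  rcases isEmpty_or_nonempty α with h | h
  · exact fun x y _ => Subsingleton.elim x y
  · obtain ⟨g, hg⟩ := hf.hasLeftInverse
    intro x y e
    have := congrArg (FreeAbelianGroup.map g) e
    rwa [← FreeAbelianGroup.map_comp_apply, ← FreeAbelianGroup.map_comp_apply, hg.comp_eq_id,
      FreeAbelianGroup.map_id_apply, FreeAbelianGroup.map_id_apply] at this

instance freeSh_preservesMonomorphisms : (freeSh J).PreservesMonomorphisms := by
  constructor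
  intro X Y f hf
  haveI : ∀ V, Mono ((Functor.whiskerRight f.hom AddCommGrpCat.free.{u}).app V) := fun V => by
    haveI : Mono (f.hom.app V) :=
      inferInstanceAs (Mono ((sheafToPresheaf J (Type u) ⋙ (evaluation Cᵒᵖ (Type u)).obj V).map f))
    exact (AddCommGrpCat.mono_iff_injective _).2
      (map_injective _ ((mono_iff_injective (f.hom.app V)).1 inferInstance))
  haveI : Mono (Functor.whiskerRight f.hom AddCommGrpCat.free.{u}) := NatTrans.mono_of_mono_app _
  exact (presheafToSheaf J AddCommGrpCat.{u}).map_mono (Functor.whiskerRight f.hom AddCommGrpCat.free.{u})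

variable {A : Type*} [Category.{u} A] [Abelian A] [HasExt.{u} A]
  {Λ : Type u} [SmallCategory Λ] [IsFiltered Λ] [HasColimitsOfShape Λ A]

omit [IsFiltered Λ] in
lemma colimAcyclic_of_iso {P P' : A} (e : P ≅ P') (h : ExtColim.ColimAcyclic Λ P) :
    ExtColim.ColimAcyclic Λ P' := by
  refine ⟨fun D => ⟨fun x => ?_, fun i y hy => ?_⟩, fun E hE n => ?_⟩
  · obtain ⟨i, y, hy⟩ := (h.good₀ D).1 ((Ext.mk₀ e.hom).comp x (zero_add 0))
    refine ⟨i, (Ext.mk₀ e.inv).comp y (zero_add 0), ?_⟩
    simp only [ExtColim.push] at hy ⊢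
    rw [Ext.comp_assoc_of_second_deg_zero, hy, Ext.mk₀_comp_mk₀_assoc, e.inv_hom_id, Ext.mk₀_id_comp]
  · obtain ⟨k, a, ha⟩ := (h.good₀ D).2 i ((Ext.mk₀ e.hom).comp y (zero_add 0)) (by
      simp only [ExtColim.push] at hy ⊢
      rw [Ext.comp_assoc_of_second_deg_zero, hy, Ext.comp_zero])
    refine ⟨k, a, ?_⟩
    simp only [ExtColim.push] at ha ⊢
    rw [Ext.comp_assoc_of_second_deg_zero] at ha
    have := congrArg (fun t => (Ext.mk₀ e.inv).comp t (zero_add 0)) ha
    simpa [Ext.mk₀_comp_mk₀_assoc] using this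
  · haveI := h.acyclic E hE n
    refine subsingleton_of_forall_eq 0 fun x => ?_
    have := congrArg (fun t => (Ext.mk₀ e.inv).comp t (zero_add (n + 1)))
      (Subsingleton.elim ((Ext.mk₀ e.hom).comp x (zero_add (n + 1))) 0)
    simpa [Ext.mk₀_comp_mk₀_assoc] using this

end Groth.Agent.Lib.ToposFin.CohomTop
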