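import Mathlib
import Groth.Agent.Lib.ToposFin.Alg

set_option autoImplicit false
set_option linter.unusedVariables false
universe u

namespace Groth.TFin

open CategoryTheory CategoryTheory.Limits Opposite ToposFin
open Groth.CanonSheaf (pt hat pt_comp pt_map pt_hat hat_pt hat_comp map_hat sheaf_ext)

variable {C : Type u} [SmallCategory C] {J : GrothendieckTopology C}

section Colimit

variable {I : Type u} [SmallCategory I] [IsFiltered I]

theorem exists_common {κ : Type u} [Finite κ] (i : I) (k : κ → I) (f : ∀ m, i ⟶ k m) :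
    ∃ (S : I) (a : i ⟶ S) (b : ∀ m, k m ⟶ S), ∀ m, f m ≫ b m = a := by
  induction κ using Finite.induction_empty_option with
  | of_equiv e ih =>
    obtain ⟨S, a, b, h⟩ := ih (fun m => k (e m)) fun m => f (e m)
    refine ⟨S, a, fun m => eqToHom (congrArg k (e.apply_symm_apply m).symm) ≫ b (e.symm m), fun m => ?_⟩
    obtain ⟨m, rfl⟩ := e.surjective m
    rw [← h m]
    have : ∀ n, n = m → ∀ (hn : k (e m) = k (e n)), f (e m) ≫ eqToHom hn ≫ b n = f (e m) ≫ b m := by
      rintro n rfl hn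
      simp
    exact this _ (e.symm_apply_apply m) _
  | h_empty => exact ⟨i, 𝟙 i, fun m => m.elim, fun m => m.elim⟩
  | h_option ih =>
    obtain ⟨S, a, b, h⟩ := ih (fun m => k (some m)) fun m => f (some m)
    obtain ⟨S', c, d, hcd⟩ := IsFiltered.span (f none) a
    exact ⟨S', a ≫ d, fun m => match m with | none => c | some m => b m ≫ d, fun m => match m with
      | none => hcd
      | some m => by simp only [← Category.assoc, h]⟩

variable (D : I ⥤ Sh J)

/-- Sections equal in a filtered colimit of sheaves are locally equal at a later stage. -/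
theorem locally_eq {U : C} {i : I} (x y : (D.obj i).obj.obj (op U))
    (h : (colimit.ι D i).hom.app (op U) x = (colimit.ι D i).hom.app (op U) y) :
    ∃ S ∈ J U, ∀ V (v : V ⟶ U), Sieve.arrows S v → ∃ (k : I) (f : i ⟶ k),
      (D.map f).hom.app (op V) ((D.obj i).obj.map v.op x) = (D.map f).hom.app (op V) ((D.obj i).obj.map v.op y) := by
  let P := D ⋙ sheafToPresheaf J (Type u)
  let Q := colimit P
  let cq : Cocone D :=
    { pt := (presheafToSheaf J (Type u)).obj Q
      ι :=
        { app := fun k => ⟨colimit.ι P k ≫ toSheafify J Q⟩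
          naturality := fun k l f => by
            refine Eq.trans ?_ (Category.comp_id _).symm
            apply ObjectProperty.hom_ext
            change (D.map f).hom ≫ colimit.ι P l ≫ toSheafify J Q = colimit.ι P k ≫ toSheafify J Q
            rw [← Category.assoc]
            congr 1
            exact colimit.w P f } }
  have h1 : (toSheafify J Q).app (op U) ((colimit.ι P i).app (op U) x) =
      (toSheafify J Q).app (op U) ((colimit.ι P i).app (op U) y) := by
    have hq := colimit.ι_desc cq i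
    have hx := congrArg (fun z : D.obj i ⟶ cq.pt => z.hom.app (op U) x) hq
    have hy := congrArg (fun z : D.obj i ⟶ cq.pt => z.hom.app (op U) y) hq
    exact (hx.symm.trans (congrArg ((colimit.desc D cq).hom.app (op U)) h)).trans hy
  refine ⟨_, Presheaf.equalizerSieve_mem J (toSheafify J Q) (X := op U) _ _ h1, fun V v hv => ?_⟩
  change Q.map v.op ((colimit.ι P i).app (op U) x) = Q.map v.op ((colimit.ι P i).app (op U) y) at hv
  rw [← NatTrans.naturality_apply, ← NatTrans.naturality_apply] at hv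
  obtain ⟨k, f, hf⟩ := (Types.FilteredColimit.isColimit_eq_iff'
    (isColimitOfPreserves ((evaluation Cᵒᵖ (Type u)).obj (op V)) (colimit.isColimit P)) _ _).1 hv
  exact ⟨k, f, hf⟩

theorem fin_aux {X : Sh J} (hX : IsQC X) {i : I} (s t : X ⟶ D.obj i) {A : Type u} {G : A → Sh J}
    {g : ∀ z, G z ⟶ X} (hA : EF g)
    (hex : ∀ z, ∃ (k : I) (f : i ⟶ k), g z ≫ s ≫ D.map f = g z ≫ t ≫ D.map f) :
    ∃ (k : I) (f : i ⟶ k), s ≫ D.map f = t ≫ D.map f := by
  obtain ⟨κ, hfin, e, he⟩ := IsQC.exists_finite hX hA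
  choose k f hf using fun m => hex (e m)
  obtain ⟨S, a, b, hab⟩ := exists_common i k f
  refine ⟨S, a, he _ _ _ fun m => ?_⟩
  rw [← hab m]
  simpa only [Category.assoc, D.map_comp] using congrArg (· ≫ D.map (b m)) (hf m)

theorem hom_eq {X : Sh J} (hX : IsQC X) {i : I} (s t : X ⟶ D.obj i) (h : s ≫ colimit.ι D i = t ≫ colimit.ι D i) :
    ∃ (k : I) (f : i ⟶ k), s ≫ D.map f = t ≫ D.map f := by
  let A := Σ' (U : C) (x : X.obj.obj (op U)) (V : C) (v : V ⟶ U) (k : I) (f : i ⟶ k),
    hat X (X.obj.map v.op x) ≫ s ≫ D.map f = hat X (X.obj.map v.op x) ≫ t ≫ D.map f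
  have hA : EF (X := X) (F := fun a : A => eps J a.2.2.1) (fun a => hat X (X.obj.map a.2.2.2.1.op a.2.1)) := by
    intro Z p q e
    refine Sheaf.hom_ext (NatTrans.ext (funext fun U => ?_))
    ext x
    obtain ⟨U⟩ := U
    obtain ⟨S, hS, hS'⟩ := locally_eq D (s.hom.app (op U) x) (t.hom.app (op U) x)
      (congrArg (fun z : X ⟶ colimit D => z.hom.app (op U) x) h :)
    refine sheaf_ext Z hS fun V v hv => ?_
    obtain ⟨k, f, hf⟩ := hS' V v hv
    have hk : hat X (X.obj.map v.op x) ≫ s ≫ D.map f = hat X (X.obj.map v.op x) ≫ t ≫ D.map f := by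
      rw [hat_comp, hat_comp]
      congr 1
      change (D.map f).hom.app (op V) (s.hom.app (op V) _) = (D.map f).hom.app (op V) (t.hom.app (op V) _)
      rw [NatTrans.naturality_apply s.hom v.op x, NatTrans.naturality_apply t.hom v.op x]
      exact hf
    have := congrArg (pt V Z) (e ⟨U, x, V, v, k, f, hk⟩)
    simp only [pt_comp, pt_hat, NatTrans.naturality_apply] at this
    exact this
  have hex : ∀ z : A, ∃ (k : I) (f : i ⟶ k), hat X (X.obj.map z.2.2.2.1.op z.2.1) ≫ s ≫ D.map f =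
      hat X (X.obj.map z.2.2.2.1.op z.2.1) ≫ t ≫ D.map f := fun z => ⟨_, _, z.2.2.2.2.2.2⟩
  exact fin_aux D hX s t hA hex

theorem exists_rep {X : Sh J} (z : colimit (D ⋙ coyoneda.obj (op X))) :
    ∃ (i : I) (s : X ⟶ D.obj i), colimit.ι (D ⋙ coyoneda.obj (op X)) i s = z ∧
      colimit.post D (coyoneda.obj (op X)) z = s ≫ colimit.ι D i := by
  obtain ⟨i, s, hs⟩ := Types.jointly_surjective_of_isColimit (colimit.isColimit _) z
  refine ⟨i, s, hs, ?_⟩
  rw [← hs]
  exact (congrArg (fun q : (D ⋙ coyoneda.obj (op X)).obj i ⟶ (coyoneda.obj (op X)).obj (colimit D) => q s)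
    (colimit.ι_post D (coyoneda.obj (op X)) i) :)

theorem post_ι {X : Sh J} (i : I) (s : X ⟶ D.obj i) :
    colimit.post D (coyoneda.obj (op X)) (colimit.ι (D ⋙ coyoneda.obj (op X)) i s) = s ≫ colimit.ι D i :=
  (congrArg (fun q : (D ⋙ coyoneda.obj (op X)).obj i ⟶ (coyoneda.obj (op X)).obj (colimit D) => q s)
    (colimit.ι_post D (coyoneda.obj (op X)) i) :)

theorem qc_injective {X : Sh J} (hX : IsQC X) : Function.Injective (colimit.post D (coyoneda.obj (op X))) := by
  intro z w h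
  obtain ⟨i, s, rfl, hs⟩ := exists_rep D z
  obtain ⟨j, t, rfl, ht⟩ := exists_rep D w
  rw [hs, ht, ← colimit.w D (IsFiltered.leftToMax i j), ← colimit.w D (IsFiltered.rightToMax i j),
    ← Category.assoc, ← Category.assoc] at h
  obtain ⟨k, f, hf⟩ := hom_eq D hX _ _ h
  refine (Types.FilteredColimit.colimit_eq_iff _).2 ⟨k, IsFiltered.leftToMax i j ≫ f, IsFiltered.rightToMax i j ≫ f, ?_⟩
  change s ≫ D.map (IsFiltered.leftToMax i j ≫ f) = t ≫ D.map (IsFiltered.rightToMax i j ≫ f)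
  simpa using hf

theorem post_surjective_iff {X : Sh J} : Function.Surjective (colimit.post D (coyoneda.obj (op X))) ↔
    ∀ x : X ⟶ colimit D, ∃ (i : I) (s : X ⟶ D.obj i), s ≫ colimit.ι D i = x := by
  constructor
  · intro h x
    obtain ⟨z, hz⟩ := h x
    obtain ⟨i, s, -, hs⟩ := exists_rep D z
    exact ⟨i, s, hs.symm.trans hz⟩
  · intro h x
    obtain ⟨i, s, hs⟩ := h x
    exact ⟨_, (post_ι D i s).trans hs⟩

/-- Maps from a coherent object to a filtered colimit factor through a stage. -/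
theorem coherent_lift (hgen : Gen J) {X : Sh J} (hX : IsCoherent X) (x : X ⟶ colimit D) :
    ∃ (i : I) (s : X ⟶ D.obj i), s ≫ colimit.ι D i = x := by
  choose α W π hW hπ using fun i => hgen (pullback (colimit.ι D i) x)
  have hι : EF fun i => colimit.ι D i := fun Z a b e => colimit.hom_ext e
  have hcov : EF fun a : Σ i, α i => π a.1 a.2 ≫ pullback.snd (colimit.ι D a.1) x :=
    (hι.pullback_snd x).comp hπ
  obtain ⟨κ, hfin, e, he⟩ := IsQC.exists_finite hX.1 hcov
  let g := fun m => π (e m).1 (e m).2 ≫ pullback.snd (colimit.ι D (e m).1) x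
  obtain ⟨i₀, hi₀⟩ : ∃ S : I, ∀ m, Nonempty ((e m).1 ⟶ S) := by
    classical
    have := Fintype.ofFinite κ
    obtain ⟨S, hS⟩ := IsFiltered.sup_objs_exists (Finset.univ.image fun m => (e m).1)
    exact ⟨S, fun m => hS (Finset.mem_image_of_mem _ (Finset.mem_univ m))⟩
  let y := fun m => π (e m).1 (e m).2 ≫ pullback.fst (colimit.ι D (e m).1) x ≫ D.map (hi₀ m).some
  have hy : ∀ m, y m ≫ colimit.ι D i₀ = g m ≫ x := fun m => by
    simp [y, g, pullback.condition]
  have hpair : ∀ p : κ × κ, ∃ (k : I) (f : i₀ ⟶ k),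
      (pullback.fst (g p.1) (g p.2) ≫ y p.1) ≫ D.map f = (pullback.snd (g p.1) (g p.2) ≫ y p.2) ≫ D.map f := fun p =>
    hom_eq D (hX.2 _ _ _ _ (hW _ _) (hW _ _)) _ _ (by
      rw [Category.assoc (pullback.fst _ _) (y p.1), Category.assoc (pullback.snd _ _) (y p.2), hy, hy,
        pullback.condition_assoc])
  choose k f hf using hpair
  obtain ⟨S, a, b, hab⟩ := exists_common i₀ k f
  obtain ⟨T, hT⟩ := he.exists_desc (fun m => y m ≫ D.map a) (fun m n => by
    have h1 := congrArg (· ≫ D.map (b (m, n))) (hf (m, n))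
    simpa only [Category.assoc, ← Functor.map_comp, hab] using h1)
  refine ⟨S, T, he _ _ _ fun m => ?_⟩
  change g m ≫ T ≫ colimit.ι D S = g m ≫ x
  rw [← Category.assoc (g m) T]
  erw [hT m]
  rw [Category.assoc, colimit.w, hy m]

theorem coherent_bijective (hgen : Gen J) {X : Sh J} (hX : IsCoherent X) :
    Function.Bijective (colimit.post D (coyoneda.obj (op X))) :=
  ⟨qc_injective D hX.1, (post_surjective_iff D).2 (coherent_lift D hgen hX)⟩

end Colimit

/-- Quasi-compactness from injectivity. -/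
theorem qc_of_injective {X : Sh J} (h : ∀ (I : Type u) [SmallCategory I] [IsFiltered I] (D : I ⥤ Sh J),
    Function.Injective (colimit.post D (coyoneda.obj (op X)))) : IsQC X := by
  classical
  rw [qc_iff]
  intro ι F π hπ
  let Z : Finset ι → Sh J := fun s => pushout (Sigma.desc fun i : s => π i) (Sigma.desc fun i : s => π i)
  have hw : ∀ (s : Finset ι) i (hi : i ∈ s), π i ≫ (pushout.inl _ _ : X ⟶ Z s) = π i ≫ pushout.inr _ _ := fun s i hi => by
    simpa using Sigma.ι (fun j : s => F j) ⟨i, hi⟩ ≫= pushout.condition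
      (f := Sigma.desc fun i : s => π i) (g := Sigma.desc fun i : s => π i)
  let D : Finset ι ⥤ Sh J :=
    { obj := Z
      map := fun {s t} f => pushout.desc (pushout.inl _ _) (pushout.inr _ _)
        (Sigma.hom_ext _ _ fun i => by simpa using hw t i.1 (leOfHom f i.2))
      map_id := fun s => by apply pushout.hom_ext <;> simp [Z, pushout.inl_desc, pushout.inr_desc]
      map_comp := fun f g => by apply pushout.hom_ext <;> simp [Z, pushout.inl_desc, pushout.inr_desc, pushout.inl_desc_assoc, pushout.inr_desc_assoc] }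
  let l : ∀ s, X ⟶ D.obj s := fun s => pushout.inl _ _
  let r : ∀ s, X ⟶ D.obj s := fun s => pushout.inr _ _
  have hl : ∀ {s t : Finset ι} (f : s ⟶ t), l s ≫ D.map f = l t := fun f => pushout.inl_desc _ _ _
  have hr : ∀ {s t : Finset ι} (f : s ⟶ t), r s ≫ D.map f = r t := fun f => pushout.inr_desc _ _ _
  have : l ∅ ≫ colimit.ι D ∅ = r ∅ ≫ colimit.ι D ∅ := hπ _ _ _ fun i => by
    have f : (∅ : Finset ι) ⟶ {i} := homOfLE (Finset.empty_subset _)
    rw [← colimit.w D f, reassoc_of% hl f, reassoc_of% hr f, reassoc_of% (hw {i} i (Finset.mem_singleton_self i) :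
      π i ≫ l {i} = π i ≫ r {i})]
  rw [← post_ι, ← post_ι] at this
  obtain ⟨s, f, g, hfg⟩ := (Types.FilteredColimit.colimit_eq_iff _).1 (h _ D this)
  change l ∅ ≫ D.map f = r ∅ ≫ D.map g at hfg
  rw [hl, hr] at hfg
  refine ⟨s, fun W a b e => ?_⟩
  have hab : Sigma.desc (fun i : s => π i) ≫ a = Sigma.desc (fun i : s => π i) ≫ b :=
    Sigma.hom_ext _ _ fun i => by simpa using e i
  calc a = l s ≫ pushout.desc a b hab := (pushout.inl_desc _ _ _).symm
    _ = r s ≫ pushout.desc a b hab := by rw [hfg]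
    _ = b := pushout.inr_desc _ _ _

/-! ### Coequalizers of coherent objects -/

theorem fp_coequalizer (hgen : Gen J) {X₀ X₁ : Sh J} (a b : X₁ ⟶ X₀) (h₀ : IsCoherent X₀) (h₁ : IsCoherent X₁) :
    IsFP (coequalizer a b) := by
  intro I _ _ D
  refine ⟨qc_injective D (qc_of_epi (coequalizer.π a b) h₀.1), (post_surjective_iff D).2 fun x => ?_⟩
  obtain ⟨i, s, hs⟩ := coherent_lift D hgen h₀ (coequalizer.π a b ≫ x)
  obtain ⟨k, f, hf⟩ := hom_eq D h₁.1 (a ≫ s) (b ≫ s) (by
    rw [Category.assoc, Category.assoc, hs, coequalizer.condition_assoc])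
  simp only [Category.assoc] at hf
  refine ⟨k, coequalizer.desc (s ≫ D.map f) hf, coequalizer.hom_ext ?_⟩
  rw [← Category.assoc, coequalizer.π_desc, Category.assoc, colimit.w, hs]

theorem fp_retract {X Y : Sh J} (i : X ⟶ Y) (p : Y ⟶ X) (h : i ≫ p = 𝟙 X) (hY : IsFP Y) : IsFP X := by
  intro I _ _ D
  constructor
  · intro z w e
    obtain ⟨a, s, rfl, hs⟩ := exists_rep D z
    obtain ⟨b, t, rfl, ht⟩ := exists_rep D w
    rw [hs, ht] at e
    have he := (hY I D).1 (((post_ι D a (p ≫ s)).trans (by rw [Category.assoc, e, ← Category.assoc])).trans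
      (post_ι D b (p ≫ t)).symm)
    obtain ⟨k, f, g, hfg⟩ := (Types.FilteredColimit.colimit_eq_iff _).1 he
    refine (Types.FilteredColimit.colimit_eq_iff _).2 ⟨k, f, g, ?_⟩
    change s ≫ D.map f = t ≫ D.map g
    change (p ≫ s) ≫ D.map f = (p ≫ t) ≫ D.map g at hfg
    simpa [reassoc_of% h] using i ≫= hfg
  · refine (post_surjective_iff D).2 fun x => ?_
    obtain ⟨k, s, hs⟩ := (post_surjective_iff D).1 (hY I D).2 (p ≫ x)
    exact ⟨k, i ≫ s, by rw [Category.assoc, hs, reassoc_of% h]⟩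

variable (J) in
/-- Coequalizers of coherent objects. -/
def IsCoeqCoh (X : Sh J) : Prop :=
  ∃ (X₀ X₁ : Sh J) (a b : X₁ ⟶ X₀), IsCoherent X₀ ∧ IsCoherent X₁ ∧ Nonempty (X ≅ coequalizer a b)

theorem exists_presentation (hE : HasCoherentGenerators J) (X : Sh J) :
    ∃ (I : Type u) (_ : SmallCategory I) (_ : IsFiltered I) (D : I ⥤ Sh J),
      (∀ i, IsCoeqCoh J (D.obj i)) ∧ Nonempty (X ≅ colimit D) := by
  classical
  obtain ⟨ι, F, π, hF, hπ'⟩ := hE X
  have hπ := (ef_iff_epi π).2 hπ'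
  choose α R ρ hR hρ using fun p : ι × ι => hE (pullback (π p.1) (π p.2))
  let A := Σ p : ι × ι, α p
  let P := {p : Finset ι × Finset A // ∀ a ∈ p.2, a.1.1 ∈ p.1 ∧ a.1.2 ∈ p.1}
  have : IsFiltered P := by
    have : Nonempty P := ⟨⟨(∅, ∅), fun a ha => absurd ha (Finset.notMem_empty a)⟩⟩
    have : IsDirected P (· ≤ ·) := ⟨fun p q => ⟨⟨(p.1.1 ∪ q.1.1, p.1.2 ∪ q.1.2), fun a ha => by
        rcases Finset.mem_union.1 ha with ha | ha
        · exact ⟨Finset.mem_union_left _ (p.2 a ha).1, Finset.mem_union_left _ (p.2 a ha).2⟩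
        · exact ⟨Finset.mem_union_right _ (q.2 a ha).1, Finset.mem_union_right _ (q.2 a ha).2⟩⟩,
      ⟨Finset.subset_union_left, Finset.subset_union_left⟩, ⟨Finset.subset_union_right, Finset.subset_union_right⟩⟩⟩
    infer_instance
  let X0 := fun p : P => ∐ fun i : p.1.1 => F i
  let X1 := fun p : P => ∐ fun a : p.1.2 => R a.1.1 a.1.2
  let lt : ∀ p : P, X1 p ⟶ X0 p := fun p => Sigma.desc fun a =>
    ρ a.1.1 a.1.2 ≫ pullback.fst (π a.1.1.1) (π a.1.1.2) ≫ Sigma.ι (fun i : p.1.1 => F i) ⟨_, (p.2 a.1 a.2).1⟩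
  let rt : ∀ p : P, X1 p ⟶ X0 p := fun p => Sigma.desc fun a =>
    ρ a.1.1 a.1.2 ≫ pullback.snd (π a.1.1.1) (π a.1.1.2) ≫ Sigma.ι (fun i : p.1.1 => F i) ⟨_, (p.2 a.1 a.2).2⟩
  let obj := fun p : P => coequalizer (lt p) (rt p)
  let inc : ∀ (p : P) (i : ι), i ∈ p.1.1 → (F i ⟶ obj p) := fun p i hi =>
    Sigma.ι (fun i : p.1.1 => F i) ⟨i, hi⟩ ≫ coequalizer.π (lt p) (rt p)
  have cond : ∀ (p : P) (a : A) (ha : a ∈ p.1.2),
      ρ a.1 a.2 ≫ pullback.fst (π a.1.1) (π a.1.2) ≫ inc p _ (p.2 a ha).1 =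
        ρ a.1 a.2 ≫ pullback.snd (π a.1.1) (π a.1.2) ≫ inc p _ (p.2 a ha).2 := fun p a ha => by
    simpa [inc, lt, rt] using Sigma.ι (fun a : p.1.2 => R a.1.1 a.1.2) ⟨a, ha⟩ ≫= coequalizer.condition (lt p) (rt p)
  have desc_cond : ∀ (p : P) {W : Sh J} (φ : ∀ i, i ∈ p.1.1 → (F i ⟶ W))
      (hφ : ∀ (a : A) (ha : a ∈ p.1.2), ρ a.1 a.2 ≫ pullback.fst (π a.1.1) (π a.1.2) ≫ φ _ (p.2 a ha).1 =
        ρ a.1 a.2 ≫ pullback.snd (π a.1.1) (π a.1.2) ≫ φ _ (p.2 a ha).2),
      lt p ≫ Sigma.desc (fun i : p.1.1 => φ i.1 i.2) = rt p ≫ Sigma.desc (fun i : p.1.1 => φ i.1 i.2) := fun p W φ hφ =>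
    Sigma.hom_ext _ _ fun a => by simpa [lt, rt] using hφ a.1 a.2
  let D : P ⥤ Sh J :=
    { obj := obj
      map := fun {p q} h => coequalizer.desc (Sigma.desc fun i : p.1.1 => inc q i.1 ((leOfHom h).1 i.2))
        (desc_cond p (fun i hi => inc q i ((leOfHom h).1 hi)) fun a ha => cond q a ((leOfHom h).2 ha))
      map_id := fun p => by
        refine coequalizer.hom_ext (Sigma.hom_ext _ _ fun i => ?_)
        simp [inc, obj]
      map_comp := fun {p q r} g h => by
        refine coequalizer.hom_ext (Sigma.hom_ext _ _ fun i => ?_)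
        simp [inc, obj] }
  let c : Cocone D :=
    { pt := X
      ι :=
        { app := fun p => coequalizer.desc (Sigma.desc fun i : p.1.1 => π i.1)
            (desc_cond p (fun i _ => π i) fun a ha => by rw [pullback.condition])
          naturality := fun p q h => by
            refine coequalizer.hom_ext (Sigma.hom_ext _ _ fun i => ?_)
            simp [D, inc, obj] } }
  have hc : ∀ t : Cocone D, ∃! m : X ⟶ t.pt, ∀ p, c.ι.app p ≫ m = t.ι.app p := fun t => by
    let sing : ι → P := fun i => ⟨({i}, ∅), fun a ha => absurd ha (Finset.notMem_empty a)⟩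
    let T := fun i => inc (sing i) i (Finset.mem_singleton_self i) ≫ t.ι.app (sing i)
    have hT : ∀ (p : P) i (hi : i ∈ p.1.1), inc p i hi ≫ t.ι.app p = T i := fun p i hi => by
      have hle : sing i ≤ p := ⟨Finset.singleton_subset_iff.2 hi, Finset.empty_subset _⟩
      have := t.w (homOfLE hle)
      simp only [T]
      rw [← this]
      simp [D, inc, obj]
    obtain ⟨m, hm⟩ := hπ.exists_desc T fun i j => (ef_iff_epi (ρ (i, j))).2 (hρ (i, j)) _ _ _ fun a => by
      let p : P := ⟨({i, j}, {⟨(i, j), a⟩}), fun b hb => by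
        obtain rfl := Finset.mem_singleton.1 hb
        exact ⟨Finset.mem_insert_self _ _, Finset.mem_insert_of_mem (Finset.mem_singleton_self _)⟩⟩
      rw [← hT p i (Finset.mem_insert_self _ _), ← hT p j (Finset.mem_insert_of_mem (Finset.mem_singleton_self _))]
      have := cond p ⟨(i, j), a⟩ (Finset.mem_singleton_self _)
      simp only [← Category.assoc] at this ⊢
      rw [this]
    refine ⟨m, fun p => coequalizer.hom_ext (Sigma.hom_ext _ _ fun i => ?_), fun m' hm' => hπ _ _ _ fun i => ?_⟩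
    · simpa [c, inc] using (hm i.1).trans (hT p i.1 i.2).symm
    · rw [hm i]
      simp only [T, ← hm']
      simp [c, inc]
  exact ⟨P, inferInstance, inferInstance, D, fun p => ⟨_, _, lt p, rt p,
      coherent_cofan (c := Cofan.mk (X0 p) (Sigma.ι _)) (coproductIsCoproduct _) fun i => hF i.1,
      coherent_cofan (c := Cofan.mk (X1 p) (Sigma.ι _)) (coproductIsCoproduct _) fun a => hR a.1.1 a.1.2, ⟨Iso.refl _⟩⟩,
    ⟨IsColimit.coconePointUniqueUpToIso
      ({ desc := fun t => (hc t).choose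
         fac := fun t p => (hc t).choose_spec.1 p
         uniq := fun t m hm => (hc t).choose_spec.2 m hm } : IsColimit c) (colimit.isColimit D)⟩⟩

theorem gen_of_coherent (hE : HasCoherentGenerators J) : Gen J := fun X => by
  obtain ⟨ι, F, π, hF, hπ⟩ := hE X
  exact ⟨ι, F, π, fun i => (hF i).1, (ef_iff_epi π).2 hπ⟩

theorem fp_iff (hE : HasCoherentGenerators J) (X : Sh J) :
    IsFP X ↔ ∃ (X₀ X₁ : Sh J) (a b : X₁ ⟶ X₀) (i : X ⟶ coequalizer a b)
      (p : coequalizer a b ⟶ X), IsCoherent X₀ ∧ IsCoherent X₁ ∧ i ≫ p = 𝟙 X := by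
  constructor
  · intro h
    obtain ⟨I, _, _, D, hD, ⟨e⟩⟩ := exists_presentation hE X
    obtain ⟨i, s, hs⟩ := (post_surjective_iff D).1 (h I D).2 e.hom
    obtain ⟨X₀, X₁, a, b, h₀, h₁, ⟨φ⟩⟩ := hD i
    exact ⟨X₀, X₁, a, b, s ≫ φ.hom, φ.inv ≫ colimit.ι D i ≫ e.inv, h₀, h₁, by simp [reassoc_of% hs]⟩
  · rintro ⟨X₀, X₁, a, b, i, p, h₀, h₁, hip⟩
    exact fp_retract i p hip (fp_coequalizer (gen_of_coherent hE) a b h₀ h₁)

theorem fp_of_coherent (hgen : Gen J) {X : Sh J} (hX : IsCoherent X) : IsFP X :=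
  fun I _ _ D => coherent_bijective D hgen hX

end Groth.TFin
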