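import Mathlib.Algebra.Homology.DerivedCategory.Ext.ExactSequences
import Mathlib.Algebra.Homology.DerivedCategory.Ext.EnoughInjectives
import Mathlib.CategoryTheory.Abelian.GrothendieckAxioms.Colim
import Mathlib.CategoryTheory.Abelian.GrothendieckCategory.Basic
import Mathlib.CategoryTheory.Abelian.GrothendieckCategory.EnoughInjectives
import Mathlib.CategoryTheory.Limits.Preserves.Filtered
import Mathlib.Algebra.Category.Grp.FilteredColimits

/-!
# `Ext` out of an object and filtered colimits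

If `Hom(P, -)` commutes with filtered colimits and filtered colimits of injective objects are
`Ext`-acyclic for `P`, then all the `Ext(P, -)` commute with filtered colimits.
-/

set_option autoImplicit false
set_option linter.style.haveILetI false

universe u v

open CategoryTheory CategoryTheory.Limits Abelian

namespace Groth.Agent.Lib.ToposFin.ExtColim

variable {A : Type v} [Category.{u} A] [Abelian A] [HasExt.{u} A]
  {Λ : Type u} [SmallCategory Λ] [IsFiltered Λ] [HasColimitsOfShape Λ A]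

/-- Push a class forward. -/
noncomputable abbrev push {P X Y : A} {n : ℕ} (f : X ⟶ Y) (x : Ext P X n) : Ext P Y n :=
  x.comp (Ext.mk₀ f) (add_zero n)

omit [IsFiltered Λ] [HasColimitsOfShape Λ A] in
lemma push_push {P X Y Z : A} {n : ℕ} (f : X ⟶ Y) (g : Y ⟶ Z) (x : Ext P X n) :
    push g (push f x) = push (f ≫ g) x := by
  simp [push]

omit [IsFiltered Λ] [HasColimitsOfShape Λ A] in
lemma push_sub {P X Y : A} {n : ℕ} (f : X ⟶ Y) (x y : Ext P X n) :
    push f (x - y) = push f x - push f y := by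
  simp [push, sub_eq_add_neg, Ext.add_comp, Ext.neg_comp]

variable (Λ) in
/-- Classes over a colimit come from a stage, and classes dying in the colimit die at a stage. -/
def Good (P : A) (n : ℕ) : Prop :=
  ∀ D : Λ ⥤ A,
    (∀ x : Ext P (colimit D) n, ∃ (i : Λ) (y : Ext P (D.obj i) n), push (colimit.ι D i) y = x) ∧
      ∀ (i : Λ) (y : Ext P (D.obj i) n), push (colimit.ι D i) y = 0 →
        ∃ (k : Λ) (a : i ⟶ k), push (D.map a) y = 0

omit [HasExt.{u} A] in
lemma stage_eq [HasExt.{u} A] {P : A} {n : ℕ} {D : Λ ⥤ A}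
    (hi : ∀ (i : Λ) (y : Ext P (D.obj i) n), push (colimit.ι D i) y = 0 →
      ∃ (k : Λ) (a : i ⟶ k), push (D.map a) y = 0)
    {i j : Λ} {x : Ext P (D.obj i) n} {y : Ext P (D.obj j) n}
    (hxy : push (colimit.ι D i) x = push (colimit.ι D j) y) :
    ∃ (m : Λ) (a : i ⟶ m) (b : j ⟶ m), push (D.map a) x = push (D.map b) y := by
  let a := IsFiltered.leftToMax i j
  let b := IsFiltered.rightToMax i j
  have h : push (colimit.ι D _) (push (D.map a) x - push (D.map b) y) = 0 := by
    rw [push_sub, sub_eq_zero, push_push, push_push, colimit.w, colimit.w]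
    exact hxy
  obtain ⟨m, c, hc⟩ := hi _ _ h
  rw [push_sub, sub_eq_zero, push_push, push_push, ← D.map_comp, ← D.map_comp] at hc
  exact ⟨m, a ≫ c, b ≫ c, hc⟩

variable (Λ) in
/-- The two hypotheses: sections commute with colimits, colimits of injectives are acyclic. -/
structure ColimAcyclic (P : A) : Prop where
  good₀ : Good Λ P 0
  acyclic : ∀ E : Λ ⥤ A, (∀ i, Injective (E.obj i)) → ∀ n, Subsingleton (Ext P (colimit E) (n + 1))

omit [IsFiltered Λ] [HasExt.{u} A] [HasColimitsOfShape Λ A] in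
/-- A diagram embeds into a diagram of injective objects. -/
lemma exists_embedding [EnoughInjectives A] [HasLimitsOfSize.{u, u} A] (D : Λ ⥤ A) :
    ∃ (E : Λ ⥤ A) (η : D ⟶ E), Mono η ∧ ∀ i, Injective (E.obj i) := by
  let E : Λ ⥤ A :=
    { obj := fun i => ∏ᶜ fun f : Σ k, (i ⟶ k) => Injective.under (D.obj f.1)
      map := fun {i j} g => Pi.lift fun f =>
        Pi.π (fun f : Σ k, (i ⟶ k) => Injective.under (D.obj f.1)) ⟨f.1, g ≫ f.2⟩
      map_id := fun i => Pi.hom_ext _ _ fun f => by
        rw [Pi.lift_π, Category.id_comp]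
        exact (Category.id_comp _).symm
      map_comp := fun {i j l} g h => Pi.hom_ext _ _ fun f => by
        simp only [Category.assoc, Pi.lift_π]
        obtain ⟨k, t⟩ := f
        have : ∀ t' t'' : i ⟶ k, t' = t'' →
            Pi.π (fun f : Σ k, (i ⟶ k) => Injective.under (D.obj f.1)) ⟨k, t'⟩ =
            Pi.π (fun f : Σ k, (i ⟶ k) => Injective.under (D.obj f.1)) ⟨k, t''⟩ := by
          rintro _ _ rfl
          rfl
        exact this _ _ (Category.assoc g h t) }
  let η : D ⟶ E :=
    { app := fun i => Pi.lift fun f => D.map f.2 ≫ Injective.ι (D.obj f.1)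
      naturality := fun i j g => Pi.hom_ext _ _ fun f => by simp [E] }
  haveI : ∀ i, Mono (η.app i) := fun i => by
    have h : η.app i ≫ Pi.π (fun f : Σ k, (i ⟶ k) => Injective.under (D.obj f.1)) ⟨i, 𝟙 i⟩ =
        Injective.ι (D.obj i) := by simp [η]
    exact mono_of_mono_fac h
  exact ⟨E, η, NatTrans.mono_of_mono_app η,
    fun i => inferInstanceAs (Injective (∏ᶜ fun f : Σ k, (i ⟶ k) => Injective.under (D.obj f.1)))⟩

omit [IsFiltered Λ] [HasColimitsOfShape Λ A] in
lemma exists_eq_comp_extClass {P : A} {S : ShortComplex A} (hS : S.ShortExact) (n : ℕ)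
    (h : ∀ x : Ext P S.X₂ (n + 1), x = 0) (x : Ext P S.X₁ (n + 1)) :
    ∃ z : Ext P S.X₃ n, z.comp hS.extClass rfl = x :=
  Ext.covariant_sequence_exact₁ P hS x (h _) rfl

omit [IsFiltered Λ] [HasColimitsOfShape Λ A] in
lemma push_comp_extClass {P : A} {S S' : ShortComplex A} (hS : S.ShortExact) (hS' : S'.ShortExact)
    (φ : S ⟶ S') {n : ℕ} (z : Ext P S.X₃ n) :
    (push φ.τ₃ z).comp hS'.extClass rfl = push φ.τ₁ (z.comp hS.extClass rfl) := by
  simp only [push]
  rw [Ext.comp_assoc (a₁₂ := n) (a₂₃ := 1) z _ _ (add_zero n) (zero_add 1) (by omega),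
    Ext.comp_assoc (a₁₂ := n + 1) (a₂₃ := 1) z _ _ rfl (add_zero 1) (by omega),
    ShortComplex.ShortExact.extClass_naturality hS hS' φ]

theorem ColimAcyclic.good [EnoughInjectives A] [HasLimitsOfSize.{u, u} A]
    [HasExactColimitsOfShape Λ A] {P : A} (hP : ColimAcyclic Λ P) (n : ℕ) : Good Λ P n := by
  induction n with
  | zero => exact hP.good₀
  | succ n ih =>
    intro D
    obtain ⟨E, η, hη, hE⟩ := exists_embedding D
    haveI := hη
    let S := ShortComplex.mk η (cokernel.π η) (cokernel.condition η)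
    have hS : S.ShortExact :=
      { exact := ShortComplex.exact_of_g_is_cokernel _ (cokernelIsCokernel η) }
    have hj : ∀ j, (S.map ((evaluation Λ A).obj j)).ShortExact := fun j => hS.map_of_exact _
    haveI : PreservesFiniteLimits (colim : (Λ ⥤ A) ⥤ A) :=
      HasExactColimitsOfShape.preservesFiniteLimits
    have hinf : (S.map (colim : (Λ ⥤ A) ⥤ A)).ShortExact := hS.map_of_exact _
    let τ : ∀ j, S.map ((evaluation Λ A).obj j) ⟶ S.map (colim : (Λ ⥤ A) ⥤ A) := fun j =>
      ShortComplex.homMk (colimit.ι D j) (colimit.ι E j) (colimit.ι (cokernel η) j)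
        (colimit.ι_map η j) (colimit.ι_map (cokernel.π η) j)
    let σ : ∀ {i j : Λ}, (i ⟶ j) →
        (S.map ((evaluation Λ A).obj i) ⟶ S.map ((evaluation Λ A).obj j)) :=
      fun a => S.mapNatTrans ((evaluation Λ A).map a)
    have hEz : ∀ j (x : Ext P (E.obj j) (n + 1)), x = 0 := fun j x =>
      haveI := hE j
      Ext.eq_zero_of_injective x
    have hEinf : ∀ x : Ext P (colimit E) (n + 1), x = 0 := fun x =>
      (hP.acyclic E hE n).elim _ _
    obtain ⟨hQs, hQi⟩ := ih (cokernel η)
    obtain ⟨hEs, -⟩ := ih E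
    refine ⟨fun x => ?_, fun j y hy => ?_⟩
    · obtain ⟨z, hz⟩ := exists_eq_comp_extClass hinf n hEinf x
      obtain ⟨j, z', rfl⟩ := hQs z
      exact ⟨j, z'.comp (hj j).extClass rfl, (push_comp_extClass (hj j) hinf (τ j) z').symm.trans hz⟩
    · obtain ⟨z, rfl⟩ := exists_eq_comp_extClass (hj j) n (hEz j) y
      have h0 : (push (τ j).τ₃ z).comp hinf.extClass rfl = 0 :=
        (push_comp_extClass (hj j) hinf (τ j) z).trans hy
      obtain ⟨t, ht⟩ := Ext.covariant_sequence_exact₃ P hinf (push (τ j).τ₃ z) rfl h0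
      obtain ⟨k, e, rfl⟩ := hEs t
      let z' : Ext P ((cokernel η).obj j) n := z
      have hzz : push (colimit.ι (cokernel η) j) z' =
          push (colimit.ι (cokernel η) k) (push ((cokernel.π η).app k) e) := by
        have h1 : push (colimit.ι (cokernel η) j) z' =
            push (colim.map (cokernel.π η)) (push (colimit.ι E k) e) := ht.symm
        rw [h1, push_push, push_push]
        exact congrArg (push · e) (colimit.ι_map (cokernel.π η) k)
      obtain ⟨m, a, b, hab⟩ := stage_eq hQi hzz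
      refine ⟨m, a, ?_⟩
      have hc' : push ((cokernel η).map a) z' = push ((cokernel.π η).app m) (push (E.map b) e) := by
        rw [hab, push_push, push_push, NatTrans.naturality]
      refine (push_comp_extClass (hj j) (hj m) (σ a) z).symm.trans ?_
      refine (congrArg (fun t : Ext P ((cokernel η).obj m) n => t.comp (hj m).extClass rfl) hc').trans ?_
      refine (Ext.comp_assoc (a₁₂ := n) (a₂₃ := 1) _ (Ext.mk₀ (S.map ((evaluation Λ A).obj m)).g)
        (hj m).extClass (add_zero n) (zero_add 1) (by omega)).trans ?_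
      exact (congrArg (fun t => Ext.comp (push (E.map b) e) t _) (hj m).comp_extClass).trans
        (Ext.comp_zero _ _ _ _ _)

variable [EnoughInjectives A] [HasLimitsOfSize.{u, u} A] [HasExactColimitsOfShape Λ A]

/-- `Ext(P, -)` preserves filtered colimits. -/
theorem ColimAcyclic.preservesColimitsOfShape {P : A} (hP : ColimAcyclic Λ P) (n : ℕ) :
    PreservesColimitsOfShape Λ ((extFunctor.{u} n).obj (Opposite.op P)) := by
  refine ⟨fun {D} => preservesColimit_of_preserves_colimit_cocone (colimit.isColimit D) ?_⟩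
  obtain ⟨hs, hi⟩ := hP.good n D
  haveI : ReflectsColimitsOfShape Λ (forget AddCommGrpCat.{u}) :=
    reflectsColimitsOfShape_of_reflectsIsomorphisms
  refine isColimitOfReflects (forget AddCommGrpCat.{u}) ?_
  refine Types.FilteredColimit.isColimitOf _ _ (fun x => ?_) fun i j x y hxy => ?_
  · obtain ⟨j, y, hy⟩ := hs x
    exact ⟨j, y, hy.symm⟩
  · obtain ⟨m, a, b, hab⟩ := stage_eq (x := x) (y := y) hi hxy
    exact ⟨m, a, b, hab⟩

omit [IsFiltered Λ] [EnoughInjectives A] [HasLimitsOfSize.{u, u} A] [HasExactColimitsOfShape Λ A] in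
/-- The cokernel of a monomorphism between two such objects is again one. -/
theorem ColimAcyclic.cokernel {P' P : A} (f : P' ⟶ P) [Mono f] (h' : ColimAcyclic Λ P')
    (h : ColimAcyclic Λ P) : ColimAcyclic Λ (cokernel f) := by
  let S := ShortComplex.mk f (cokernel.π f) (cokernel.condition f)
  have hS : S.ShortExact :=
    { exact := ShortComplex.exact_of_g_is_cokernel _ (cokernelIsCokernel f) }
  refine ⟨fun D => ⟨fun x => ?_, fun i y hy => ?_⟩, fun E hE n => ?_⟩
  · obtain ⟨s, rfl⟩ := (Ext.mk₀_bijective _ _).2 x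
    obtain ⟨i, y, hy⟩ := (h.good₀ D).1 (Ext.mk₀ (cokernel.π f ≫ s))
    obtain ⟨t, rfl⟩ := (Ext.mk₀_bijective _ _).2 y
    simp only [push, Ext.mk₀_comp_mk₀] at hy
    have ht : t ≫ colimit.ι D i = cokernel.π f ≫ s := (Ext.mk₀_bijective _ _).1 hy
    obtain ⟨k, a, ha⟩ := (h'.good₀ D).2 i (Ext.mk₀ (f ≫ t)) (by
      rw [push, Ext.mk₀_comp_mk₀, Category.assoc, ht, cokernel.condition_assoc, zero_comp,
        Ext.mk₀_zero])
    rw [push, Ext.mk₀_comp_mk₀, ← Ext.mk₀_zero, Category.assoc] at ha
    refine ⟨k, Ext.mk₀ (cokernel.desc f (t ≫ D.map a) ((Ext.mk₀_bijective _ _).1 ha)), ?_⟩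
    rw [push, Ext.mk₀_comp_mk₀]
    congr 1
    rw [← cancel_epi (cokernel.π f), cokernel.π_desc_assoc, Category.assoc, colimit.w, ht]
  · obtain ⟨t, rfl⟩ := (Ext.mk₀_bijective _ _).2 y
    rw [push, Ext.mk₀_comp_mk₀, ← Ext.mk₀_zero] at hy
    obtain ⟨k, a, ha⟩ := (h.good₀ D).2 i (Ext.mk₀ (cokernel.π f ≫ t)) (by
      rw [push, Ext.mk₀_comp_mk₀, Category.assoc, (Ext.mk₀_bijective _ _).1 hy, comp_zero,
        Ext.mk₀_zero])
    rw [push, Ext.mk₀_comp_mk₀, ← Ext.mk₀_zero, Category.assoc] at ha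
    refine ⟨k, a, ?_⟩
    rw [push, Ext.mk₀_comp_mk₀, ← Ext.mk₀_zero]
    congr 1
    rw [← cancel_epi (cokernel.π f), (Ext.mk₀_bijective _ _).1 ha, comp_zero]
  · refine subsingleton_of_forall_eq 0 fun x => ?_
    have hx : (Ext.mk₀ (cokernel.π f)).comp x (zero_add (n + 1)) = 0 := (h.acyclic E hE n).elim _ _
    obtain ⟨w, rfl⟩ := Ext.contravariant_sequence_exact₃ hS _ x hx (add_comm 1 n)
    cases n with
    | succ n => rw [(h'.acyclic E hE n).elim w 0, Ext.comp_zero]
    | zero =>
      obtain ⟨i, y, rfl⟩ := (h'.good₀ E).1 w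
      obtain ⟨t, rfl⟩ := (Ext.mk₀_bijective _ _).2 y
      haveI := hE i
      have : t = f ≫ Injective.factorThru t f := (Injective.comp_factorThru t f).symm
      rw [push, Ext.mk₀_comp_mk₀, this, Category.assoc, ← Ext.mk₀_comp_mk₀]
      exact hS.extClass_comp_assoc _

end Groth.Agent.Lib.ToposFin.ExtColim
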