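import Groth.Agent.Lib.SiteCoh.TotAcyclic
import Groth.Agent.Lib.ToposFin.Alg
import Groth.Agent.Lib.ToposFin.Filtered
import Groth.Agent.Lib.ToposFin.ExtColim
import Groth.Prelude.Def_ToposFin2
import Mathlib.CategoryTheory.Sites.PreservesSheafification

/-!
# Cohomology over coherent objects and filtered colimits of abelian sheaves
-/

set_option autoImplicit false
set_option linter.style.haveILetI false

universe u

open CategoryTheory CategoryTheory.Limits Opposite CategoryTheory.Abelian Simplicial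
open ToposFin Groth.TFin
open Groth.Agent.Lib.SiteCoh
open Groth.Agent.Lib.SiteCoh.HomAcyclic Groth.Agent.Lib.SiteCoh.NerveCx
  Groth.Agent.Lib.SiteCoh.FreeSheaf Groth.Agent.Lib.SiteCoh.TotAcyclic
  Groth.Agent.Lib.SiteCoh.Kill

namespace Groth.Agent.Lib.ToposFin.Cohom

variable {C : Type u} [SmallCategory C] {J : GrothendieckTopology C}

instance preservesFilteredColimits_sheafCompose (Λ : Type u) [SmallCategory Λ] [IsFiltered Λ] :
    PreservesColimitsOfShape Λ (sheafCompose J (forget AddCommGrpCat.{u})) := by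
  constructor
  intro D
  let L := presheafToSheaf J AddCommGrpCat.{u}
  let D' := D ⋙ sheafToPresheaf J AddCommGrpCat.{u}
  let W := (Functor.whiskeringRight Cᵒᵖ AddCommGrpCat.{u} (Type u)).obj (forget AddCommGrpCat.{u}) ⋙
    presheafToSheaf J (Type u)
  have hW : PreservesColimitsOfShape Λ W := inferInstance
  let e : W ≅ L ⋙ sheafCompose J (forget AddCommGrpCat.{u}) :=
    sheafComposeNatIso J (forget AddCommGrpCat.{u}) (sheafificationAdjunction J _)
      (sheafificationAdjunction J _)
  haveI : PreservesColimitsOfShape Λ (L ⋙ sheafCompose J (forget AddCommGrpCat.{u})) :=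
    preservesColimitsOfShape_of_natIso e
  haveI : PreservesColimitsOfShape Λ L :=
    (sheafificationAdjunction J AddCommGrpCat.{u}).leftAdjoint_preservesColimits.preservesColimitsOfShape
  have hc : IsColimit (L.mapCocone (colimit.cocone D')) := isColimitOfPreserves L (colimit.isColimit D')
  have hUc : IsColimit ((sheafCompose J (forget AddCommGrpCat.{u})).mapCocone
      (L.mapCocone (colimit.cocone D'))) :=
    IsColimit.ofIsoColimit (isColimitOfPreserves (L ⋙ sheafCompose J (forget AddCommGrpCat.{u}))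
      (colimit.isColimit D')) (Cocone.ext (Iso.refl _) fun i => Category.comp_id _)
  haveI : PreservesColimit (D' ⋙ L) (sheafCompose J (forget AddCommGrpCat.{u})) :=
    preservesColimit_of_preserves_colimit_cocone hc hUc
  exact preservesColimit_of_iso_diagram _
    (NatIso.ofComponents (fun i => asIso ((sheafificationAdjunction J AddCommGrpCat.{u}).counit.app (D.obj i)))
      (fun {i j} f => ((sheafificationAdjunction J AddCommGrpCat.{u}).counit.naturality (D.map f))) :
      D' ⋙ L ≅ D)

section Hom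

variable {Λ : Type u} [SmallCategory Λ] [IsFiltered Λ] (D : Λ ⥤ Sheaf J AddCommGrpCat.{u})

/-- The underlying diagram of sheaves of sets. -/
noncomputable abbrev setDiag : Λ ⥤ Sh J := D ⋙ sheafCompose J (forget AddCommGrpCat.{u})

lemma exists_stage (hgen : Gen J) {K : Sh J} (hK : ToposFin.IsCoherent K)
    (x : (freeSh J).obj K ⟶ colimit D) :
    ∃ (i : Λ) (y : (freeSh J).obj K ⟶ D.obj i), y ≫ colimit.ι D i = x := by
  let U := sheafCompose J (forget AddCommGrpCat.{u})
  let e : colimit (setDiag D) ≅ U.obj (colimit D) := (preservesColimitIso U D).symm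
  obtain ⟨i, s, hs⟩ := coherent_lift (setDiag D) hgen hK ((freeShAdj J).homEquiv K _ x ≫ e.inv)
  refine ⟨i, ((freeShAdj J).homEquiv K _).symm s, ((freeShAdj J).homEquiv K _).injective ?_⟩
  rw [(freeShAdj J).homEquiv_naturality_right, Equiv.apply_symm_apply]
  rw [← cancel_mono e.inv, Category.assoc]
  refine Eq.trans ?_ hs
  congr 1
  exact ι_preservesColimitIso_hom U D i

lemma eventually_zero {K : Sh J} (hK : ToposFin.IsQC K) {i : Λ} (y : (freeSh J).obj K ⟶ D.obj i)
    (hy : y ≫ colimit.ι D i = 0) : ∃ (k : Λ) (a : i ⟶ k), y ≫ D.map a = 0 := by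
  let U := sheafCompose J (forget AddCommGrpCat.{u})
  let adj := freeShAdj J
  have h : adj.homEquiv K _ y ≫ colimit.ι (setDiag D) i =
      adj.homEquiv K _ 0 ≫ colimit.ι (setDiag D) i := by
    have h1 : ∀ z : (freeSh J).obj K ⟶ D.obj i, adj.homEquiv K _ z ≫ colimit.ι (setDiag D) i =
        adj.homEquiv K _ (z ≫ colimit.ι D i) ≫ (preservesColimitIso U D).hom := fun z => by
      rw [adj.homEquiv_naturality_right, Category.assoc]
      congr 1
      exact (ι_preservesColimitIso_hom U D i).symm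
    rw [h1, h1, hy, zero_comp]
  obtain ⟨k, a, ha⟩ := hom_eq (setDiag D) hK _ _ h
  refine ⟨k, a, (adj.homEquiv K _).injective ?_⟩
  have h2 : adj.homEquiv K _ (y ≫ D.map a) =
      adj.homEquiv K _ ((0 : (freeSh J).obj K ⟶ D.obj i) ≫ D.map a) := by
    rw [adj.homEquiv_naturality_right, adj.homEquiv_naturality_right]
    exact ha
  exact h2.trans (by rw [zero_comp])

/-- Exactness of the Čech complex of a nerve with coherent terms passes to filtered colimits. -/
lemma exactHom_colimit (hgen : Gen J) {K' K : Sh J} (f : K' ⟶ K)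
    (hf : ∀ n, ToposFin.IsCoherent (level f n)) (q : ℕ)
    (h : ∀ i, ExactHom (nerveP f) (D.obj i) q) : ExactHom (nerveP f) (colimit D) q := by
  intro x hx
  obtain ⟨i, y, hy⟩ := exists_stage D hgen (hf (q + 1)) x
  obtain ⟨k, a, ha⟩ := eventually_zero D (hf (q + 2)).1 ((nerveP f).d (q + 2) (q + 1) ≫ y) (by
    exact (Category.assoc _ _ _).trans ((congrArg ((nerveP f).d (q + 2) (q + 1) ≫ ·) hy).trans hx))
  obtain ⟨z, hz⟩ := h k (y ≫ D.map a) ((Category.assoc _ _ _).symm.trans ha)
  refine ⟨z ≫ colimit.ι D k, ?_⟩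
  refine ((Category.assoc _ _ _).symm.trans (congrArg (· ≫ colimit.ι D k) hz)).trans ?_
  exact ((Category.assoc _ _ _).trans (congrArg (y ≫ ·) (colimit.w D a))).trans hy

end Hom

section Criterion

variable (Q : Sh J → Prop)

/-- A class of objects with enough covers whose nerves stay in the class. -/
def HasNerves : Prop :=
  ∀ K : Sh J, Q K → ∀ {P : Sh J} (e : P ⟶ K), Epi e →
    ∃ (K' : Sh J) (r : K' ⟶ P), Epi (r ≫ e) ∧ ∀ n, Q (level (r ≫ e) n)

variable {Q}

/-- Acyclicity on the members of the class. -/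
def AcyclicOn (Q : Sh J → Prop) (F : Sheaf J AddCommGrpCat.{u}) : Prop :=
  ∀ K, Q K → ∀ p, Subsingleton (CohCx.HK K F (p + 1))

lemma acyclicOn_X₃ {S : ShortComplex (Sheaf J AddCommGrpCat.{u})} (hS : S.ShortExact)
    (h1 : AcyclicOn Q S.X₁) (h2 : AcyclicOn Q S.X₂) : AcyclicOn Q S.X₃ := by
  intro K hK p
  refine subsingleton_of_forall_eq 0 fun x => ?_
  have hx : x.comp hS.extClass rfl = 0 := (h1 K hK (p + 1)).elim _ _
  obtain ⟨y, hy⟩ := Ext.covariant_sequence_exact₃ _ hS x rfl hx
  have h0 : y = 0 := (h2 K hK p).elim y 0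
  rw [← hy, h0, Ext.zero_comp]
  try rfl

lemma acyclicOn_injective (I : Sheaf J AddCommGrpCat.{u}) [Injective I] : AcyclicOn Q I :=
  fun K _ p => isTotallyAcyclic_of_injective I K p

theorem exactHom_of_acyclicOn {K' K : Sh J} (f : K' ⟶ K) [Epi f] (hK : Q K)
    (hf : ∀ n, Q (level f n)) (q : ℕ) :
    ∀ {F : Sheaf J AddCommGrpCat.{u}}, AcyclicOn Q F → ExactHom (nerveP f) F q := by
  induction q with
  | zero =>
    intro F hF
    exact exactHom_X₁_zero (embSES_shortExact F) (isResolution f)
      (fun x => surjective_comp (embSES_shortExact F) (hF K hK 0) x)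
      (exactHom_of_injective _ _ _ ((isResolution f).exactAt 0))
  | succ q ih =>
    intro F hF
    exact exactHom_X₁_succ (embSES_shortExact F) q
      (fun x => surjective_comp (embSES_shortExact F) (hF (level f q) (hf q) 0) x)
      (exactHom_of_injective _ _ _ ((isResolution f).exactAt (q + 1)))
      (ih (acyclicOn_X₃ (embSES_shortExact F) hF (acyclicOn_injective _)))

lemma lift_of_exact (hQ : HasNerves Q) {F : Sheaf J AddCommGrpCat.{u}}
    {S : ShortComplex (Sheaf J AddCommGrpCat.{u})} (hS : S.ShortExact) (e : S.X₁ = F)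
    (h : ∀ {K' K : Sh J} (f : K' ⟶ K), Epi f → Q K → (∀ n, Q (level f n)) →
      ExactHom (nerveP f) F 0)
    {K : Sh J} (hK : Q K) (s : (freeSh J).obj K ⟶ S.X₃) :
    ∃ r : (freeSh J).obj K ⟶ S.X₂, r ≫ S.g = s := by
  subst e
  have := hS.mono_f
  have := hS.epi_g
  have hg : Sheaf.IsLocallySurjective S.g := (Sheaf.isLocallySurjective_iff_epi' _ S.g).2 inferInstance
  let adj := freeShAdj J
  let g' := (sheafCompose J (forget AddCommGrpCat.{u})).map S.g
  have : Sheaf.IsLocallySurjective g' :=
    (Presheaf.isLocallySurjective_iff_whisker_forget J S.g.hom).1 hg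
  let σ := adj.homEquiv _ _ s
  have : Sheaf.IsLocallySurjective (pullback.snd g' σ) := SheafTypes.isLocallySurjective_snd g' σ
  have : Epi (pullback.snd g' σ) := inferInstance
  obtain ⟨K₁, ρ, hp, hlev⟩ := hQ K hK (pullback.snd g' σ) inferInstance
  let p := ρ ≫ pullback.snd g' σ
  have : Epi p := hp
  let t := (adj.homEquiv _ _).symm (ρ ≫ pullback.fst g' σ)
  have ht : t ≫ S.g = (freeSh J).map p ≫ s := by
    apply (adj.homEquiv _ _).injective
    rw [adj.homEquiv_naturality_right, adj.homEquiv_naturality_left, Equiv.apply_symm_apply,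
      Category.assoc]
    exact (congrArg (ρ ≫ ·) pullback.condition).trans (Category.assoc _ _ _).symm
  let π : level p 0 ⟶ K₁ := WidePullback.π (fun _ : Fin 1 => (Arrow.mk p).hom) 0
  let x₀ : (nerveP p).X 0 ⟶ S.X₂ := (freeSh J).map π ≫ t
  have hx₀ : x₀ ≫ S.g = nerveε p ≫ s := by
    exact (Category.assoc _ _ _).trans ((congrArg ((freeSh J).map π ≫ ·) ht).trans
      ((Category.assoc _ _ _).symm.trans (congrArg (· ≫ s) (nerveε_eq p).symm)))
  obtain ⟨u, hu⟩ := exists_lift hS ((nerveP p).d 1 0 ≫ x₀) (by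
    rw [Category.assoc, hx₀, ← Category.assoc, (isResolution p).w, zero_comp])
  obtain ⟨y, hy⟩ := h p inferInstance hK hlev u (by
    rw [← cancel_mono S.f, Category.assoc, hu, (nerveP p).d_comp_d_assoc, zero_comp, zero_comp])
  obtain ⟨r, hr⟩ := (isResolution p).exists_desc (x₀ - y ≫ S.f) (by
    rw [Preadditive.comp_sub, ← Category.assoc _ y, hy, hu, sub_self])
  refine ⟨r, ?_⟩
  have := (isResolution p).epi
  rw [← cancel_epi (nerveε p), ← Category.assoc, hr, Preadditive.sub_comp, Category.assoc y, S.zero,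
    comp_zero, sub_zero, hx₀]

/-- Cartan's criterion, relative to a class of objects. -/
theorem acyclicOn_of_exactHom (hQ : HasNerves Q) {F : Sheaf J AddCommGrpCat.{u}}
    (h : ∀ {K' K : Sh J} (f : K' ⟶ K), Epi f → Q K → (∀ n, Q (level f n)) →
      ∀ q, ExactHom (nerveP f) F q) : AcyclicOn Q F := by
  suffices H : ∀ (p : ℕ) (F : Sheaf J AddCommGrpCat.{u}),
      (∀ {K' K : Sh J} (f : K' ⟶ K), Epi f → Q K → (∀ n, Q (level f n)) →
        ∀ q, ExactHom (nerveP f) F q) →
      ∀ K, Q K → Subsingleton (CohCx.HK K F (p + 1)) by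
    exact fun K hK p => H p F h K hK
  clear h F
  intro p
  induction p with
  | zero =>
    intro F h K hK
    refine subsingleton_of_forall_eq 0 fun x => ?_
    obtain ⟨y, rfl⟩ := Kill.exists_eq_comp_extClass F x
    obtain ⟨s, rfl⟩ := (Ext.mk₀_bijective _ _).2 y
    obtain ⟨r, rfl⟩ := lift_of_exact hQ (embSES_shortExact F) rfl
      (fun f hf h1 h2 => h f hf h1 h2 0) hK s
    rw [← Ext.mk₀_comp_mk₀, Ext.comp_assoc (a₁₂ := 0) (a₂₃ := 1) _ _ _ (add_zero 0) (zero_add 1)
      (by omega), ShortComplex.ShortExact.comp_extClass, Ext.comp_zero]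
    rfl
  | succ p ih =>
    intro F h K hK
    refine subsingleton_of_forall_eq 0 fun x => ?_
    obtain ⟨y, rfl⟩ := Kill.exists_eq_comp_extClass F x
    have : Subsingleton (CohCx.HK K (embSES F).X₃ (p + 1)) := by
      refine ih _ (fun {K₁ K₂} f hf h1 h2 q => ?_) K hK
      exact exactHom_X₃ (embSES_shortExact F) q
        (fun x => lift_of_exact (K := level f (q + 1)) hQ (embSES_shortExact F) rfl
          (fun g hg g1 g2 => h g hg g1 g2 0) (h2 (q + 1)) x)
        (exactHom_of_injective _ _ _ ((isResolution f).exactAt q)) (h f hf h1 h2 (q + 1))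
    have h0 : y = 0 := Subsingleton.elim (α := CohCx.HK K (embSES F).X₃ (p + 1)) y 0
    rw [h0, Ext.zero_comp]
    try rfl

/-- Filtered colimits of sheaves acyclic on the class are acyclic on it. -/
theorem acyclicOn_colimit (hgen : Gen J) (hQ : HasNerves Q) (hcoh : ∀ K, Q K → ToposFin.IsCoherent K)
    {Λ : Type u} [SmallCategory Λ] [IsFiltered Λ] (D : Λ ⥤ Sheaf J AddCommGrpCat.{u})
    (hD : ∀ i, AcyclicOn Q (D.obj i)) : AcyclicOn Q (colimit D) := by
  refine acyclicOn_of_exactHom hQ fun f hf hK hlev q => ?_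
  haveI := hf
  exact exactHom_colimit D hgen f (fun n => hcoh _ (hlev n)) q
    fun i => exactHom_of_acyclicOn f hK hlev q (hD i)

end Criterion

section Levels

variable {K' K : Sh J}

/-- The first level of the nerve is the source. -/
noncomputable def levelZeroIso (f : K' ⟶ K) : level f 0 ≅ K' where
  hom := WidePullback.π (fun _ : Fin 1 => (Arrow.mk f).hom) 0
  inv := WidePullback.lift f (fun _ => 𝟙 K') fun _ => Category.id_comp f
  hom_inv_id := by
    refine WidePullback.hom_ext _ _ _ (fun j => ?_) ?_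
    · obtain rfl : j = 0 := Subsingleton.elim (α := Fin 1) _ _
      rw [Category.assoc, WidePullback.lift_π, Category.comp_id, Category.id_comp]
    · rw [Category.assoc, WidePullback.lift_base, Category.id_comp]
      exact WidePullback.π_arrow (fun _ : Fin 1 => (Arrow.mk f).hom) 0
  inv_hom_id := WidePullback.lift_π _ _ _ _ _

/-- The structural map of a level. -/
noncomputable abbrev levelBase (f : K' ⟶ K) (n : ℕ) : level f n ⟶ K :=
  WidePullback.base fun _ : Fin (n + 1) => (Arrow.mk f).hom

/-- The projections of a level. -/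
noncomputable abbrev levelπ (f : K' ⟶ K) (n : ℕ) (a : Fin (n + 1)) : level f n ⟶ K' :=
  WidePullback.π (fun _ : Fin (n + 1) => (Arrow.mk f).hom) a

/-- The next level of the nerve is a fibre product. -/
lemma isPullback_level (f : K' ⟶ K) (n : ℕ) :
    IsPullback
      (WidePullback.lift (levelBase f (n + 1)) (fun a => levelπ f (n + 1) a.succ)
        (fun _ => WidePullback.π_arrow _ _) : level f (n + 1) ⟶ level f n)
      (levelπ f (n + 1) 0) (levelBase f n) f := by
  refine ⟨⟨?_⟩, ⟨PullbackCone.IsLimit.mk _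
    (fun c => WidePullback.lift (c.snd ≫ f) (Fin.cons c.snd fun a => c.fst ≫ levelπ f n a)
      (fun a => ?_)) (fun c => ?_) (fun c => ?_) (fun c m h1 h2 => ?_)⟩⟩
  · exact (WidePullback.lift_base _ _ _ _).trans
      (WidePullback.π_arrow (fun _ : Fin (n + 2) => (Arrow.mk f).hom) 0).symm
  · induction a using Fin.cases with
    | zero => rw [Fin.cons_zero]; rfl
    | succ a =>
      rw [Fin.cons_succ, Category.assoc]
      exact (congrArg (c.fst ≫ ·) (WidePullback.π_arrow _ a)).trans c.condition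
  · refine WidePullback.hom_ext _ _ _ (fun a => ?_) ?_
    · rw [Category.assoc, WidePullback.lift_π, WidePullback.lift_π, Fin.cons_succ]
    · rw [Category.assoc, WidePullback.lift_base, WidePullback.lift_base]
      exact c.condition.symm
  · exact (WidePullback.lift_π _ _ _ _ _).trans (Fin.cons_zero _ _)
  · refine WidePullback.hom_ext _ _ _ (fun a => ?_) ?_
    · rw [WidePullback.lift_π]
      induction a using Fin.cases with
      | zero => rw [Fin.cons_zero]; exact h2
      | succ a =>
        rw [Fin.cons_succ, ← h1, Category.assoc, WidePullback.lift_π]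
    · rw [WidePullback.lift_base, ← h2, Category.assoc]
      exact congrArg (m ≫ ·) (WidePullback.π_arrow (fun _ : Fin (n + 2) => (Arrow.mk f).hom) 0).symm

lemma coherent_level {f : K' ⟶ K} (hK' : ToposFin.IsCoherent K') (hqc : QCP J f) (hqs : QSP J f)
    (n : ℕ) : ToposFin.IsCoherent (level f n) := by
  induction n with
  | zero => exact coherent_of_iso (levelZeroIso f).symm hK'
  | succ n ih =>
    have H := isPullback_level f n
    exact ⟨hqc _ _ _ H.flip ih.1,
      qs_of_qsp _ (MorphismProperty.IsStableUnderBaseChange.of_isPullback H.flip hqs) ih.2⟩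

end Levels

section Algebraic

variable (hE : ToposFin.IsAlgebraic J)

include hE in
lemma gen_of_algebraic : Gen J := by
  obtain ⟨S, hqc, hgen, -, -⟩ := hE
  exact gen_of_generating hgen hqc

include hE in
lemma hasNerves_coherent : HasNerves (J := J) ToposFin.IsCoherent := by
  intro K hK P e he
  have hE' := hE
  obtain ⟨S, hqc, hgen, hpb, -⟩ := hE
  obtain ⟨ι, F, π, hF, hπ⟩ := hgen P
  have hcov : EF fun i => π i ≫ e := fun Z a b h => (cancel_epi e).1
    (hπ Z (e ≫ a) (e ≫ b) fun i => (Category.assoc _ _ _).symm.trans ((h i).trans (Category.assoc _ _ _)))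
  obtain ⟨κ, hfin, j, hj⟩ := IsQC.exists_finite hK.1 hcov
  let r : (∐ fun k => F (j k)) ⟶ P := Sigma.desc fun k => π (j k)
  have hK' : ToposFin.IsCoherent (∐ fun k => F (j k)) :=
    coherent_cofan (c := Cofan.mk _ (Sigma.ι fun k => F (j k))) (coproductIsCoproduct _)
      fun k => ⟨hqc _ (hF _), qs_of_closed hgen hqc hpb _ (hF _)⟩
  refine ⟨_, r, ?_, coherent_level hK' ((qs_iff K).1 hK.2 _ hK'.1) (alg_qsp hE' hK'.2 _)⟩
  rw [show r ≫ e = Sigma.desc fun k => π (j k) ≫ e from
    Sigma.hom_ext _ _ fun k => by simp [r]]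
  exact (ef_iff_epi _).1 hj

include hE in
theorem colimAcyclic_free {K : Sh J} (hK : ToposFin.IsCoherent K)
    (Λ : Type u) [SmallCategory Λ] [IsFiltered Λ] :
    ExtColim.ColimAcyclic Λ ((freeSh J).obj K) := by
  refine ⟨fun D => ⟨fun x => ?_, fun i y hy => ?_⟩, fun E hE' n => ?_⟩
  · obtain ⟨s, rfl⟩ := (Ext.mk₀_bijective _ _).2 x
    obtain ⟨i, y, hy⟩ := exists_stage D (gen_of_algebraic hE) hK s
    exact ⟨i, Ext.mk₀ y, by rw [ExtColim.push, Ext.mk₀_comp_mk₀, hy]⟩
  · obtain ⟨t, rfl⟩ := (Ext.mk₀_bijective _ _).2 y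
    rw [ExtColim.push, Ext.mk₀_comp_mk₀, ← Ext.mk₀_zero] at hy
    obtain ⟨k, a, ha⟩ := eventually_zero D hK.1 t ((Ext.mk₀_bijective _ _).1 hy)
    exact ⟨k, a, by rw [ExtColim.push, Ext.mk₀_comp_mk₀, ha, Ext.mk₀_zero]⟩
  · exact acyclicOn_colimit (gen_of_algebraic hE) (hasNerves_coherent hE) (fun _ h => h) E
      (fun i => haveI := hE' i; acyclicOn_injective _) K hK n

end Algebraic

end Groth.Agent.Lib.ToposFin.Cohom
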