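import Groth.Agent.Lib.ToposFin.CohomTop
import Groth.Agent.Lib.ModSS29.DerivedNat
import Groth.Agent.Lib.SiteCoh.Leray

/-!
# Higher direct images and filtered colimits
-/

set_option autoImplicit false
set_option linter.style.haveILetI false

universe u

open CategoryTheory CategoryTheory.Limits Opposite CategoryTheory.Abelian
open Groth.Agent.Lib.SiteCoh Groth.Agent.Lib.SpecSeq
open Groth.Agent.Lib.ModSS29

namespace Groth.Agent.Lib.ToposFin.RpushColim

variable {C D : Type u} [SmallCategory C] [SmallCategory D]
  {J : GrothendieckTopology C} {K : GrothendieckTopology D} (u : D ⥤ C)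

/-- The direct image as presheaves. -/
noncomputable abbrev pushPsh : Sheaf J AddCommGrpCat.{u} ⥤ Dᵒᵖ ⥤ AddCommGrpCat.{u} :=
  sheafToPresheaf J AddCommGrpCat.{u} ⋙ (Functor.whiskeringLeft _ _ _).obj u.op

/-- Sections of the direct image as `Hom` out of a free sheaf. -/
noncomputable def secIso (V : D) :
    pushPsh (J := J) u ⋙ (evaluation Dᵒᵖ AddCommGrpCat.{u}).obj (op V) ≅
      HomExt.homFunctor (CohCx.freeSheaf J (u.obj V)) :=
  NatIso.ofComponents
    (fun F => AddEquiv.toAddCommGrpIso (Basic.homEquiv (u.obj V) F).symm)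
    (fun {F G} φ => by
      ext s
      exact (Basic.homEquiv_symm_comp (U := u.obj V) s φ).symm)

variable [u.IsContinuous K J]

/-- `R^q u_*` is the sheafification of the derived presheaf direct image. -/
noncomputable def rpushIso (q : ℕ) :
    CohSite.Rpush J K u q ≅
      (pushPsh (J := J) u).rightDerived q ⋙ presheafToSheaf K AddCommGrpCat.{u} :=
  HomExtNat.rightDerivedMapIso
    (Functor.isoWhiskerLeft (CohSite.push J K u)
      (asIso (sheafificationAdjunction K AddCommGrpCat.{u}).counit)).symm q ≪≫
    DerivedNat.postIso (pushPsh u) (presheafToSheaf K AddCommGrpCat.{u}) q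

theorem preservesColimitsOfShape_rpush (hE : _root_.ToposFin.IsAlgebraic J)
    (hu : ∀ V : D, _root_.ToposFin.IsCoherent (_root_.ToposFin.eps J (u.obj V)))
    (Λ : Type u) [SmallCategory Λ] [IsFiltered Λ] (q : ℕ) :
    PreservesColimitsOfShape Λ (CohSite.Rpush J K u q) := by
  haveI : PreservesColimitsOfShape Λ (presheafToSheaf K AddCommGrpCat.{u}) :=
    (sheafificationAdjunction K AddCommGrpCat.{u}).leftAdjoint_preservesColimits.preservesColimitsOfShape
  haveI : PreservesColimitsOfShape Λ ((pushPsh (J := J) u).rightDerived q) := by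
    refine preservesColimitsOfShape_of_evaluation _ _ fun V => ?_
    haveI := (CohomTop.colimAcyclic_of_iso (FreeSheaf.freeShRepIso J (u.obj V.unop))
      (Cohom.colimAcyclic_free hE (hu V.unop) Λ)).preservesColimitsOfShape q
    exact preservesColimitsOfShape_of_natIso
      ((HomExtNat.rightDerivedNatIso (CohCx.freeSheaf J (u.obj V.unop)) q).symm ≪≫
        HomExtNat.rightDerivedMapIso (secIso u V.unop).symm q ≪≫
        DerivedNat.postIso (pushPsh u) ((evaluation Dᵒᵖ AddCommGrpCat.{u}).obj V) q)
  exact preservesColimitsOfShape_of_natIso (rpushIso u q).symm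

end Groth.Agent.Lib.ToposFin.RpushColim
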