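import Groth.Agent.Lib.ToposFin.Cohom
import Mathlib.CategoryTheory.Extensive
import Mathlib.CategoryTheory.Limits.Shapes.Pullback.Mono

/-!
# Sheaves acyclic on a generating family stable under fibre products
-/

set_option autoImplicit false
set_option linter.style.haveILetI false

universe u

open CategoryTheory CategoryTheory.Limits Opposite CategoryTheory.Abelian
open ToposFin Groth.TFin
open Groth.Agent.Lib.SiteCoh Groth.Agent.Lib.SiteCoh.FreeSheaf Groth.Agent.Lib.SiteCoh.TotAcyclic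
open Groth.Agent.Lib.ToposFin.Cohom

namespace Groth.Agent.Lib.ToposFin.SAcyclic

variable {C : Type u} [SmallCategory C] {J : GrothendieckTopology C}

/-- Finite coproducts of members of `S`. -/
def FinSum (S : Set (Sh J)) (L : Sh J) : Prop :=
  ∃ (ι : Type u) (_ : Finite ι) (G : ι → Sh J) (i : ∀ a, G a ⟶ L),
    Nonempty (IsColimit (Cofan.mk L i)) ∧ ∀ a, G a ∈ S

lemma coherent_of_finSum {S : Set (Sh J)} (hS : ∀ K ∈ S, ToposFin.IsCoherent K) {L : Sh J}
    (hL : FinSum S L) : ToposFin.IsCoherent L := by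
  obtain ⟨ι, hfin, G, i, ⟨hc⟩, hG⟩ := hL
  exact coherent_cofan (c := Cofan.mk L i) hc fun a => hS _ (hG a)

lemma subsingleton_hk_finSum {L : Sh J} {ι : Type u} [Finite ι] {G : ι → Sh J} {i : ∀ a, G a ⟶ L}
    (hc : IsColimit (Cofan.mk L i)) (F : Sheaf J AddCommGrpCat.{u}) (n : ℕ)
    (h : ∀ a, Subsingleton (CohCx.HK (G a) F n)) : Subsingleton (CohCx.HK L F n) := by
  classical
  haveI := Fintype.ofFinite ι
  have hc' := isColimitCofanMkObjOfIsColimit (freeSh J) (fun a => G a) i hc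
  let π : ∀ a, (freeSh J).obj L ⟶ (freeSh J).obj (G a) := fun a =>
    Cofan.IsColimit.desc hc' fun b => if h : b = a then eqToHom (by rw [h]) else 0
  have hπ : ∀ a b, (freeSh J).map (i b) ≫ π a = if h : b = a then eqToHom (by rw [h]) else 0 :=
    fun a b => Cofan.IsColimit.fac hc' (fun b => if h : b = a then eqToHom (by rw [h]) else 0) b
  have hid : ∑ a, π a ≫ (freeSh J).map (i a) = 𝟙 _ := by
    refine Cofan.IsColimit.hom_ext hc' _ _ fun b => ?_
    change (freeSh J).map (i b) ≫ _ = (freeSh J).map (i b) ≫ _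
    rw [Preadditive.comp_sum, Category.comp_id]
    rw [Finset.sum_eq_single b]
    · rw [← Category.assoc, hπ, dif_pos rfl, eqToHom_refl, Category.id_comp]
    · intro a _ ha
      rw [← Category.assoc, hπ, dif_neg (Ne.symm ha), zero_comp]
    · intro h
      exact absurd (Finset.mem_univ b) h
  refine subsingleton_of_forall_eq 0 fun x => ?_
  have hx : ∀ a, (Ext.mk₀ ((freeSh J).map (i a))).comp x (zero_add n) = 0 := fun a => (h a).elim _ _
  have e : (Ext.mk₀ (∑ a, π a ≫ (freeSh J).map (i a))).comp x (zero_add n) = x := by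
    rw [hid]; exact Ext.mk₀_id_comp x
  rw [← e, Ext.mk₀_sum, Ext.sum_comp]
  refine Finset.sum_eq_zero fun a _ => ?_
  rw [← Ext.mk₀_comp_mk₀_assoc, hx, Ext.comp_zero]

section Restrict

variable {L : Sh J} {β : Type u} {P : β → Sh J} (T : β → Prop) {G : {b // T b} → Sh J}

/-- Initial components can be dropped from a cofan. -/
lemma isColimit_drop_initial (j : ∀ b, P b ⟶ L) (hj : IsColimit (Cofan.mk L j))
    (hT : ∀ b, ¬ T b → Nonempty (IsInitial (P b))) (e : ∀ b : {b // T b}, G b ≅ P b.1) :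
    Nonempty (IsColimit (Cofan.mk L fun b => (e b).hom ≫ j b.1)) := by
  classical
  let f : ∀ s : Cofan G, ∀ b, P b ⟶ s.pt := fun s b =>
    if h : T b then (e ⟨b, h⟩).inv ≫ s.inj ⟨b, h⟩ else (hT b h).some.to _
  refine ⟨Cofan.IsColimit.mk _ (fun s => Cofan.IsColimit.desc hj (f s))
    (fun s b => ?_) (fun s m hm => ?_)⟩
  · have h1 : j b.1 ≫ Cofan.IsColimit.desc hj (f s) = f s b.1 := Cofan.IsColimit.fac hj (f s) b.1
    simp only [cofan_mk_inj, Category.assoc]
    rw [h1]
    simp [f, b.2]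
  · refine Cofan.IsColimit.hom_ext hj _ _ fun b => ?_
    have h1 : j b ≫ Cofan.IsColimit.desc hj (f s) = f s b := Cofan.IsColimit.fac hj (f s) b
    simp only [cofan_mk_inj]
    rw [h1]
    by_cases h : T b
    · have := hm ⟨b, h⟩
      simp only [cofan_mk_inj, Category.assoc] at this
      simp [f, h, ← this]
    · exact (hT b h).some.hom_ext _ _

end Restrict

variable {S : Set (Sh J)} (hqc : ∀ K ∈ S, ToposFin.IsQC K) (hgen : ToposFin.IsGenerating S)
  (hpb : ToposFin.ClosedUnderPullbacks S)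

include hgen hpb hqc in
lemma hasNerves_finSum : HasNerves (FinSum S) := by
  intro K hK P e he
  have hScoh : ∀ L ∈ S, ToposFin.IsCoherent L := fun L hL =>
    ⟨hqc L hL, qs_of_closed hgen hqc hpb L hL⟩
  have hKqc : ToposFin.IsQC K := (coherent_of_finSum hScoh hK).1
  obtain ⟨I, hI, G, k, ⟨hk⟩, hG⟩ := hK
  have hmono : ∀ a, Mono (k a) := fun a => inj_mono (c := Cofan.mk K k) hk a
  choose α W π hW hπ using fun a => hgen (pullback e (k a))
  have he' : EF (X := K) (F := fun _ : PUnit.{u + 1} => P) fun _ => e :=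
    fun Z x y h => (cancel_epi e).1 (h PUnit.unit)
  have hcov : EF fun z : Σ a, α a => (π z.1 z.2 ≫ pullback.snd e (k z.1)) ≫ k z.1 := by
    have hk' : EF k := ef_inj (c := Cofan.mk K k) hk
    refine hk'.comp (k := fun a w => π a w ≫ pullback.snd e (k a)) fun a => ?_
    intro Z x y h
    refine he'.pullback_snd (k a) Z x y fun _ => hπ a Z _ _ fun w => ?_
    simpa only [Category.assoc] using h w
  obtain ⟨κ, hκ, j, hj⟩ := IsQC.exists_finite hKqc hcov
  let a : κ → I := fun m => (j m).1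
  let F : κ → Sh J := fun m => W (a m) (j m).2
  let φ : ∀ m, F m ⟶ G (a m) := fun m => π (a m) (j m).2 ≫ pullback.snd e (k (a m))
  let r : (∐ F) ⟶ P := Sigma.desc fun m => π (a m) (j m).2 ≫ pullback.fst e (k (a m))
  have hr : ∀ m, Sigma.ι F m ≫ r ≫ e = φ m ≫ k (a m) := fun m => by
    simp [r, φ, pullback.condition]
  refine ⟨∐ F, r, ?_, ?_⟩
  · rw [show r ≫ e = Sigma.desc fun m => φ m ≫ k (a m) from
      Sigma.hom_ext _ _ fun m => (hr m).trans (Sigma.ι_desc (fun m => φ m ≫ k (a m)) m).symm]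
    exact (ef_iff_epi _).1 hj
  suffices H : ∀ n, ∃ (ι : Type u) (_ : Finite ι) (H : ι → Sh J) (i : ∀ b, H b ⟶ level (r ≫ e) n)
      (_ : IsColimit (Cofan.mk _ i)) (c : ι → I) (ψ : ∀ b, H b ⟶ G (c b)),
      (∀ b, H b ∈ S) ∧ ∀ b, i b ≫ levelBase (r ≫ e) n = ψ b ≫ k (c b) by
    intro n
    obtain ⟨ι, hι, H, i, hi, c, ψ, hH, -⟩ := H n
    exact ⟨ι, hι, H, i, ⟨hi⟩, hH⟩
  intro n
  induction n with
  | zero =>
    refine ⟨κ, hκ, F, fun m => Sigma.ι F m ≫ (levelZeroIso (r ≫ e)).inv, ?_, a, φ,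
      fun m => hW _ _, fun m => ?_⟩
    · exact IsColimit.ofIsoColimit (coproductIsCoproduct F)
        (Cofan.ext (levelZeroIso (r ≫ e)).symm fun m => rfl)
    · rw [Category.assoc, ← hr m]
      congr 1
      exact WidePullback.lift_base _ _ _ _
  | succ n ih =>
    obtain ⟨ι, hι, H, i, hi, c, ψ, hH, hψ⟩ := ih
    have HP := isPullback_level (r ≫ e) n
    let Pb : ι × κ → Sh J := fun z => pullback (ψ z.1 ≫ k (c z.1)) (φ z.2 ≫ k (a z.2))
    have hcomm : ∀ z : ι × κ,
        (pullback.fst _ _ ≫ i z.1 : Pb z ⟶ _) ≫ levelBase (r ≫ e) n =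
          (pullback.snd _ _ ≫ Sigma.ι F z.2) ≫ r ≫ e := fun z =>
      (Category.assoc _ _ _).trans ((congrArg (pullback.fst _ _ ≫ ·) (hψ z.1)).trans
        (pullback.condition.trans ((congrArg (pullback.snd _ _ ≫ ·) (hr z.2).symm).trans
          (Category.assoc _ _ _).symm)))
    let jn : ∀ z, Pb z ⟶ level (r ≫ e) (n + 1) := fun z => HP.lift _ _ (hcomm z)
    obtain ⟨hd⟩ := IsUniversalColimit.nonempty_isColimit_prod_of_isPullback
      (FinitaryExtensive.isVanKampen_finiteCoproducts hi).isUniversal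
      (FinitaryExtensive.isVanKampen_finiteCoproducts (coproductIsCoproduct F)).isUniversal
      (fun b => ψ b ≫ k (c b)) (fun m => φ m ≫ k (a m)) (levelBase (r ≫ e) n) (r ≫ e)
      (P := Pb) (q₁ := fun _ _ => pullback.fst _ _) (q₂ := fun _ _ => pullback.snd _ _)
      (fun b m => IsPullback.of_hasPullback _ _) HP (d := Cofan.mk _ jn) (Iso.refl _)
      (hu := hψ) (hv := hr)
      (he₁ := fun b m => by simp [jn])
      (he₂ := fun b m => by simp [jn])
    let T : ι × κ → Prop := fun z => c z.1 = a z.2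
    have hinit : ∀ z, ¬ T z → Nonempty (IsInitial (Pb z)) := fun z hz =>
      isInitial_inter (c := Cofan.mk K k) hk hz (pullback.fst _ _ ≫ ψ z.1)
        (pullback.snd _ _ ≫ φ z.2) (by
          simp only [cofan_mk_inj, Category.assoc]
          exact pullback.condition)
    have hmem : ∀ z : {z // T z}, ∃ (R : Sh J) (_ : R ≅ Pb z.1), R ∈ S := by
      rintro ⟨⟨b, m⟩, h⟩
      have key : ∀ (a' : I) (φ' : F m ⟶ G a'), c b = a' →
          ∃ (R : Sh J) (_ : R ≅ pullback (ψ b ≫ k (c b)) (φ' ≫ k a')), R ∈ S := by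
        rintro a' φ' rfl
        obtain ⟨R, p, q, hR, hpq⟩ := hpb (ψ b) φ' (hH b) (hW _ _) (hG _)
        haveI := hmono (c b)
        exact ⟨R, (IsPullback.of_isLimit
          (PullbackCone.isLimitOfCompMono (ψ b) φ' (k (c b)) hpq.cone hpq.isLimit)).isoPullback, hR⟩
      exact key (a m) (φ m) h
    choose R eR hR using hmem
    obtain ⟨hd'⟩ := isColimit_drop_initial T jn hd hinit eR
    refine ⟨{z // T z}, inferInstance, R, _, hd', fun z => c z.1.1,
      fun z => (eR z).hom ≫ pullback.fst _ _ ≫ ψ z.1.1, hR, fun z => ?_⟩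
    simp only [Category.assoc]
    congr 1
    refine Eq.trans ?_ (((HP.lift_fst_assoc _ _ (hcomm z.1) (levelBase (r ≫ e) n)).trans
      (Category.assoc _ _ _)).trans (congrArg (pullback.fst _ _ ≫ ·) (hψ z.1.1)))
    exact congrArg (jn z.1 ≫ ·) (WidePullback.lift_base _ _ _ _).symm

include hgen hpb hqc in
theorem acyclic_colimit {Λ : Type u} [SmallCategory Λ] [IsFiltered Λ]
    (D : Λ ⥤ Sheaf J AddCommGrpCat.{u})
    (hD : ∀ (i : Λ) (K : Sh J), K ∈ S → ∀ q : ℕ, Subsingleton (CohCx.HK K (D.obj i) (q + 1)))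
    (K : Sh J) (hK : K ∈ S) (q : ℕ) : Subsingleton (CohCx.HK K (colimit D) (q + 1)) := by
  refine acyclicOn_colimit (gen_of_generating hgen hqc) (hasNerves_finSum hqc hgen hpb)
    (fun L hL => coherent_of_finSum (fun L hL => ⟨hqc L hL, qs_of_closed hgen hqc hpb L hL⟩) hL)
    D (fun i L hL p => ?_) K ?_ q
  · obtain ⟨ι, hι, G, g, ⟨hc⟩, hG⟩ := hL
    exact subsingleton_hk_finSum hc _ _ fun a => hD i _ (hG a) p
  · exact ⟨PUnit, inferInstance, fun _ => K, fun _ => 𝟙 K,
      ⟨Cofan.IsColimit.mk _ (fun s => s.inj PUnit.unit) (fun s _ => Category.id_comp _)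
        (fun s m hm => (Category.id_comp m).symm.trans (hm PUnit.unit))⟩, fun _ => hK⟩

end Groth.Agent.Lib.ToposFin.SAcyclic
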